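import Groth.Agent.Duality.FundLocal.Corollaries
import Groth.Agent.Duality.SheafHomTwist
import Groth.Agent.OmegaSheaf.Universal
import Groth.Agent.OmegaSheaf.Pull
import Groth.Agent.OmegaSheaf.ConormalExact
import Groth.Agent.OmegaSheaf.ConormalSmooth
import Groth.Agent.OmegaSheaf.Smooth
import Groth.Agent.KoszulLCI.Immersion
import Groth.Agent.KoszulLCI.SchemeBaseChange
import Groth.Agent.LocFree.SES
import Groth.Agent.LocFree.Rank
import Groth.Agent.LocFree.ExtPullback
import Groth.Agent.VBCurves.DetExact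
import Groth.Agent.PicAux.InverseInvertible
import Groth.Agent.Reductive.MTTransporter

/-!
# Top forms of a smooth scheme inside a smooth scheme
-/

set_option autoImplicit false
set_option linter.style.haveILetI false

universe u

open CategoryTheory CategoryTheory.Limits AlgebraicGeometry TopologicalSpace

noncomputable section

namespace Groth.Duality.FundLocal

open Groth.LocFree (extPow)

variable {S P X : Scheme.{u}} (g : P ⟶ S) (f : X ⟶ S) (ι : X ⟶ P) [IsClosedImmersion ι] (n r : ℕ)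
  [Smooth g] [Smooth f] [QuasiSeparated g] [QuasiSeparated f]

/-- `0 → C → ι^*Ω_P → Ω_X → 0`. -/
theorem exists_conormal_ses (hι : ι ≫ g = f) :
    ∃ (φ : Omega.conormal ι ⟶ (Scheme.Modules.pullback ι).obj (Omega.sheaf g))
      (c : (Scheme.Modules.pullback ι).obj (Omega.sheaf g) ⟶ Omega.sheaf f) (w : φ ≫ c = 0),
      (ShortComplex.mk φ c w).ShortExact := by
  subst hι
  have hP := Groth.OmegaSheaf.isUniversal_dOmega g
  have hX := Groth.OmegaSheaf.isUniversal_dOmega (ι ≫ g)
  obtain ⟨φ, hφ, -⟩ := Groth.OmegaSheaf.existsUnique_isConormalDiff (i := ι) (f := g) (d := OmegaSh.dOmega g)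
  obtain ⟨c, hc, -⟩ := Groth.OmegaSheaf.existsUnique_isDiffCompat (h := ι) (g := 𝟙 S)
    (d₂ := OmegaSh.dOmega (ι ≫ g)) hP (Category.comp_id (ι ≫ g)).symm
  haveI := Groth.OmegaSheaf.conormalDiff_mono (Groth.Reductive.MTInt.isFormallySmoothHom_of_smooth' (ι ≫ g)) hP hφ
  haveI := Groth.OmegaSheaf.diffCompat_epi hP hX hc
  exact ⟨φ, c, Groth.OmegaSheaf.conormalDiff_comp_eq_zero hφ hc,
    { exact := Groth.OmegaSheaf.conormalDiff_exact hP hX hφ hc _
      mono_f := ‹Mono φ›
      epi_g := ‹Epi c› }⟩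

include g f in
/-- A smooth closed subscheme of a smooth scheme is regularly immersed. -/
theorem isRegularImmersion_of_smooth [IsLocallyNoetherian P] (hι : ι ≫ g = f) :
    RegImm.IsRegularImmersion .regular ι := by
  have h := KoszulLCI.morLCI_of_comp_smooth ι g (hι ▸ KoszulLCI.morLCI_of_smooth f)
  exact (KoszulLCI.isRegularImmersion_kind_iff .koszul ι).1 (KoszulLCI.isRegularImmersion_of_morLCI ι h)

include g f in
/-- Its conormal sheaf is locally free of rank `n - r`. -/
theorem isFinLocFreeOfRank_conormal [IsLocallyNoetherian P] (hg : FlatMod.IsFinLocFreeOfRank n (Omega.sheaf g))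
    (hf : FlatMod.IsFinLocFreeOfRank r (Omega.sheaf f)) (hι : ι ≫ g = f) :
    FlatMod.IsFinLocFreeOfRank (n - r) (Omega.conormal ι) ∧
      (∀ x : X, Nonempty X → r ≤ n) := by
  obtain ⟨φ, c, w, hS⟩ := exists_conormal_ses g f ι hι
  have h3 := hf
  have h2 := LocFree.isFinLocFreeOfRank_iff.1 hg
  have h2' : FlatMod.IsFinLocFreeOfRank n ((Scheme.Modules.pullback ι).obj (Omega.sheaf g)) :=
    LocFree.isFinLocFreeOfRank_pullback ι hg
  have hC : FlatMod.IsFinLocFree (Omega.conormal ι) :=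
    KoszulLCI.isFinLocFree_conormal ι fun z =>
      (KoszulLCI.isRegularImmersion_of_isRegularImmersion_regular .h1 ι
        (isRegularImmersion_of_smooth g f ι hι)).2 z
  have key : ∀ x : X, n = Module.finrank (X.presheaf.stalk x) ((Omega.conormal ι).presheaf.stalk x) + r := by
    intro x
    have := LocFree.finrank_stalk_add hS hC (LocFree.isFinLocFree_of_rank h3) x
    rwa [LocFree.finrank_stalk h2' x, LocFree.finrank_stalk h3 x] at this
  refine ⟨LocFree.isFinLocFreeOfRank_iff_finrank.2 ⟨hC, fun x => ?_⟩, fun x _ => ?_⟩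
  · have := key x; omega
  · have := key x; omega

include g f in
/-- It is regularly immersed in codimension `n - r`. -/
theorem isRegularImmersionOfCodim [IsLocallyNoetherian P] (hg : FlatMod.IsFinLocFreeOfRank n (Omega.sheaf g))
    (hf : FlatMod.IsFinLocFreeOfRank r (Omega.sheaf f)) (hι : ι ≫ g = f) :
    RegImm.IsRegularImmersionOfCodim .regular (n - r) ι := by
  obtain ⟨hrk, -⟩ := isFinLocFreeOfRank_conormal g f ι n r hg hf hι
  refine ⟨inferInstance, fun z => ?_⟩
  obtain ⟨U, hz, hci, rs, hseq, hker⟩ := (isRegularImmersion_of_smooth g f ι hι).2 z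
  refine ⟨U, hz, hci, rs, ?_, hseq, hker⟩
  have hW := isConormalChart ι (U := U.1) U.2
  obtain ⟨b⟩ := KoszulLCI.nonempty_basis_conormal ι hW rs.get
    (KoszulLCI.seq_h1_of_koszul (KoszulLCI.seq_koszul_of_regular hseq)) (by rw [hker, Set.range_list_get])
  have hb : PicAux.Basis' (Omega.conormal ι) (ι ⁻¹ᵁ U.1) b := by
    refine KTheory.LocFree.basis'_of_affine hW.affine_preimage _ ?_
    rw [show (fun q : Fin rs.length → Γ(X, ι ⁻¹ᵁ U.1) => ∑ i, q i • b i) = b.equivFun.symm from
      funext fun q => (b.equivFun_symm_apply q).symm]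
    exact b.equivFun.symm.bijective
  exact (LocFree.finrank_stalk_of_basis hb hz).symm.trans (LocFree.finrank_stalk hrk z)

end Groth.Duality.FundLocal

namespace Groth.Duality.FundLocal

variable {X : Scheme.{u}}

/-- An epimorphism of line bundles is an isomorphism. -/
theorem isIso_of_epi_rank_one {E F : X.Modules} (hE : FlatMod.IsFinLocFreeOfRank 1 E)
    (hF : FlatMod.IsFinLocFreeOfRank 1 F) (φ : E ⟶ F) [Epi φ] : IsIso φ := by
  refine QCohMod.isIso_of_stalk φ fun x => (ConcreteCategory.isIso_iff_bijective _).2 ?_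
  have := KTheory.LocFree.free_stalk (LocFree.isFinLocFree_of_rank hE) x
  have := KTheory.LocFree.free_stalk (LocFree.isFinLocFree_of_rank hF) x
  have := LocFree.finite_stalk (LocFree.isFinLocFree_of_rank hE) x
  have := LocFree.finite_stalk (LocFree.isFinLocFree_of_rank hF) x
  let e := LinearEquiv.ofFinrankEq (R := X.presheaf.stalk x) (F.presheaf.stalk x) (E.presheaf.stalk x)
    ((LocFree.finrank_stalk hF x).trans (LocFree.finrank_stalk hE x).symm)
  have hs : Function.Surjective (KTheory.LocFree.stalkₗ φ x) := (QCohMod.epi_iff_stalk φ).1 ‹_› x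
  have hbij : Function.Bijective (e.toLinearMap ∘ₗ KTheory.LocFree.stalkₗ φ x) :=
    OrzechProperty.bijective_of_surjective_endomorphism _ (e.surjective.comp hs)
  exact ⟨fun a b hab => hbij.1 (congrArg e hab), hs⟩

/-- `Hom(L, L ⊗ M) ≅ M` for a line bundle `L`. -/
theorem nonempty_sheafHom_tensor_iso {L M : X.Modules} (hL : PicF.IsInvertible L) [DCoh.HasSheafHom L] :
    Nonempty ((DCoh.sheafHom L).obj (CohB1.tensorMod L M) ≅ M) := by
  obtain ⟨N, -, hN⟩ := PicAux.exists_isInverseOf hL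
  refine ⟨(SheafHom.sheafHomIsoTensor hN).app _ ≪≫ (DCoh.tensorRightMod N).mapIso
    (PicAux.exists_braiding L M).choose ≪≫ ?_⟩
  exact ((PicAux.twistEquiv hN).unitIso.app M).symm

variable {S P : Scheme.{u}} (g : P ⟶ S) (f : X ⟶ S) (ι : X ⟶ P) [IsClosedImmersion ι] (n r : ℕ)
  [Smooth g] [Smooth f] [QuasiSeparated g] [QuasiSeparated f]
  [IsLocallyNoetherian P]

open Groth.LocFree (extPow)

/-- `Hom(∧^{n-r} C, ι^*Ω^n_P) ≅ Ω^r_X`. -/
theorem nonempty_hom_topForms_iso (hg : FlatMod.IsFinLocFreeOfRank n (Omega.sheaf g))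
    (hf : FlatMod.IsFinLocFreeOfRank r (Omega.sheaf f)) (hι : ι ≫ g = f) (ΩP : P.Modules) (hΩP : ExtPow.IsExtPow n (Omega.sheaf g) ΩP)
    (ΩX : X.Modules) (hΩX : ExtPow.IsExtPow r (Omega.sheaf f) ΩX)
    [DCoh.HasSheafHom (extPow (n - r) (Omega.conormal ι))] :
    Nonempty ((DCoh.sheafHom (extPow (n - r) (Omega.conormal ι))).obj ((Scheme.Modules.pullback ι).obj ΩP) ≅ ΩX) := by
  rcases isEmpty_or_nonempty X with hX | hX
  · have hz : ∀ M : X.Modules, IsZero M := fun M =>
      (QCohMod.isZero_iff_stalk M).2 fun x => (IsEmpty.false x).elim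
    exact ⟨(hz _).iso (hz _)⟩
  obtain ⟨hrk, hle⟩ := isFinLocFreeOfRank_conormal g f ι n r hg hf hι
  have hrn : n - r + r = n := Nat.sub_add_cancel (hle (Classical.arbitrary X) hX)
  obtain ⟨φ, c, w, hS⟩ := exists_conormal_ses g f ι hι
  have h3 := hf
  have h2 : FlatMod.IsFinLocFreeOfRank n ((Scheme.Modules.pullback ι).obj (Omega.sheaf g)) :=
    LocFree.isFinLocFreeOfRank_pullback ι hg
  obtain ⟨θ, hθ⟩ := VBCurves.DetExact.nonempty_det_iso hS (a := n - r) (b := r) hrk
    (LocFree.isFinLocFree_of_rank h2) h3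
  have hAq := KTheory.LocFree.isQCoh (LocFree.isFinLocFree_of_rank hrk)
  have hBq := KTheory.LocFree.isQCoh (LocFree.isFinLocFree_of_rank h2)
  have hCq := KTheory.LocFree.isQCoh (LocFree.isFinLocFree_of_rank h3)
  have hL : FlatMod.IsFinLocFreeOfRank 1 (extPow (n - r) (Omega.conormal ι)) := by
    simpa using LocFree.isFinLocFreeOfRank_extPow hrk (n - r)
  have hM : FlatMod.IsFinLocFreeOfRank 1 (extPow r (Omega.sheaf f)) := by
    simpa using LocFree.isFinLocFreeOfRank_extPow h3 r
  have hT : FlatMod.IsFinLocFreeOfRank 1 (extPow (n - r + r) ((Scheme.Modules.pullback ι).obj (Omega.sheaf g))) := by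
    rw [hrn]
    simpa using LocFree.isFinLocFreeOfRank_extPow h2 n
  have hsrc : FlatMod.IsFinLocFreeOfRank 1
      (CohB1.tensorMod (extPow (n - r) (Omega.conormal ι)) (extPow r (Omega.sheaf f))) :=
    LocFree.isFinLocFreeOfRank_tensorMod hL hM
  haveI : IsIso θ := isIso_of_epi_rank_one hsrc hT θ
  haveI : (Omega.sheaf g).IsQuasicoherent := inferInstance
  obtain ⟨e1⟩ := LocFree.nonempty_iso_extPow (LocFree.isExtPow_pullback ι hΩP)
  obtain ⟨e2⟩ := LocFree.nonempty_iso_extPow hΩX
  obtain ⟨e3⟩ := nonempty_sheafHom_tensor_iso (M := extPow r (Omega.sheaf f))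
    (LocFree.isInvertible_iff_ofRank_one.2 hL)
  have eT : CohB1.tensorMod (extPow (n - r) (Omega.conormal ι)) (extPow r (Omega.sheaf f)) ≅
      (Scheme.Modules.pullback ι).obj ΩP :=
    asIso θ ≪≫ eqToIso (by rw [hrn]) ≪≫ e1
  exact ⟨(DCoh.sheafHom _).mapIso eT.symm ≪≫ e3 ≪≫ e2⟩

end Groth.Duality.FundLocal
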