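import Groth.Agent.Duality.SheafHom
import Groth.Agent.CohTwo.LocFreeExt
import Groth.Agent.CohBase.AffineVanishing

/-!
# `Hom(ι_* O_X, G)` is the subsheaf of sections killed by the ideal
-/

set_option autoImplicit false
set_option linter.style.haveILetI false

universe u

open CategoryTheory CategoryTheory.Limits AlgebraicGeometry TopologicalSpace

noncomputable section

namespace Groth.Duality.FundLocal

open Groth.QCohMod (germ res resFun germ_smul)
open Groth.PicAux (tmulSec)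

variable {P X : Scheme.{u}} (ι : X ⟶ P)

/-- `ι_* O_X`. -/
abbrev pushO : P.Modules := (Scheme.Modules.pushforward ι).obj (Coh.structureModule X)

/-- The unit section of `ι_* O_X`. -/
def oneP (W : P.Opens) : Γ(pushO ι, W) := (show Γ(X, ι ⁻¹ᵁ W) from 1)

lemma smul_oneP (W : P.Opens) (a : Γ(P, W)) :
    a • oneP ι W = (show Γ(X, ι ⁻¹ᵁ W) from ι.app W a) :=
  mul_one (show Γ(X, ι ⁻¹ᵁ W) from ι.app W a)

lemma smul_oneP_eq_zero_iff (W : P.Opens) (a : Γ(P, W)) :
    a • oneP ι W = 0 ↔ ι.app W a = 0 := by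
  rw [smul_oneP]
  rfl

lemma res_oneP {W W' : P.Opens} (h : W' ≤ W) : PicAux.res (pushO ι) h (oneP ι W) = oneP ι W' :=
  map_one (X.presheaf.map _).hom

variable [ModSite.HasSheafHom (O := P.sheaf) (pushO ι)] [DCoh.HasSheafHom (pushO ι)]

/-- `Hom(ι_* O_X, -)`. -/
abbrev homO : P.Modules ⥤ P.Modules := ModSite.sheafHom (O := P.sheaf) (pushO ι)

/-- The comparison with the other internal Hom. -/
abbrev cmp (G : P.Modules) : (homO ι).obj G ≅ (DCoh.sheafHom (pushO ι)).obj G :=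
  (CohTwo.LocFreeExt.msIso (pushO ι)).app G

/-- Evaluation at the unit. -/
def ev1 (G : P.Modules) (W : P.Opens) : Γ((homO ι).obj G, W) →ₗ[Γ(P, W)] Γ(G, W) where
  toFun h := SheafHom.evSec (pushO ι) ((cmp ι G).hom.app W h) (oneP ι W)
  map_add' a b := by
    rw [map_add, SheafHom.evSec, PicAux.tmulSec_add_right, map_add]
    rfl
  map_smul' r a := by
    rw [Scheme.Modules.Hom.app_smul, SheafHom.evSec, PicAux.tmulSec_smul_right,
      Scheme.Modules.Hom.app_smul]
    rfl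

lemma ev1_map {G G' : P.Modules} (p : G ⟶ G') (W : P.Opens) (h : Γ((homO ι).obj G, W)) :
    ev1 ι G' W (((homO ι).map p).app W h) = p.app W (ev1 ι G W h) := by
  have e := (CohTwo.LocFreeExt.msIso (pushO ι)).hom.naturality p
  refine Eq.trans (congrArg (fun k => SheafHom.evSec (pushO ι) k (oneP ι W)) ?_)
    (SheafHom.evSec_map (pushO ι) p ((cmp ι G).hom.app W h) (oneP ι W))
  exact congrArg (fun φ => Scheme.Modules.Hom.app φ W h) e

lemma ev1_res (G : P.Modules) {W W' : P.Opens} (hW : W' ≤ W) (h : Γ((homO ι).obj G, W)) :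
    ev1 ι G W' (PicAux.res _ hW h) = PicAux.res G hW (ev1 ι G W h) := by
  simp only [ev1, LinearMap.coe_mk, AddHom.coe_mk, SheafHom.evSec]
  rw [PicAux.app_res, ← res_oneP ι hW, ← PicAux.res_tmulSec, PicAux.app_res]

lemma ev1_killed (G : P.Modules) (W : P.Opens) (h : Γ((homO ι).obj G, W)) (a : Γ(P, W))
    (ha : ι.app W a = 0) : a • ev1 ι G W h = 0 := by
  show a • SheafHom.evSec (pushO ι) _ _ = 0
  rw [SheafHom.evSec, ← Scheme.Modules.Hom.app_smul, ← PicAux.tmulSec_smul_left,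
    (smul_oneP_eq_zero_iff ι W a).2 ha]
  have : tmulSec (L := pushO ι) (0 : Γ(pushO ι, W)) ((cmp ι G).hom.app W h) = 0 := by
    have e := PicAux.tmulSec_smul_left (L := pushO ι) (0 : Γ(P, W)) (oneP ι W) ((cmp ι G).hom.app W h)
    rwa [zero_smul, zero_smul] at e
  rw [this, map_zero]

variable [IsClosedImmersion ι]

omit [ModSite.HasSheafHom (O := P.sheaf) (pushO ι)] [DCoh.HasSheafHom (pushO ι)] in
lemma spans_oneP {W : P.Opens} (hW : IsAffineOpen W) :
    VectorBundles.RefHullStalk.Spans (pushO ι) (fun _ : PUnit.{u + 1} => oneP ι W) := by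
  intro y hy
  refine eq_top_iff.2 fun v _ => ?_
  obtain ⟨V, hyV, m, rfl⟩ := QCohMod.exists_germ (pushO ι) y v
  obtain ⟨g, hg, hgy⟩ := hW.exists_basicOpen_le ⟨y, hyV⟩ hy
  have hB : IsAffineOpen (P.basicOpen g) := hW.basicOpen g
  obtain ⟨a, ha⟩ := ι.app_surjective _ hB (show Γ(X, ι ⁻¹ᵁ P.basicOpen g) from
    PicAux.res (pushO ι) hg m)
  have e1 : PicAux.res (pushO ι) hg m = a • PicAux.res (pushO ι) (P.basicOpen_le g) (oneP ι W) := by
    rw [res_oneP, smul_oneP]
    exact ha.symm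
  rw [← QCohMod.germ_res (pushO ι) hg y hgy, KTheory.LocFree.qres_eq, e1, germ_smul,
    ← KTheory.LocFree.qres_eq, QCohMod.germ_res]
  exact Submodule.smul_mem _ _ (Submodule.subset_span ⟨⟨⟩, rfl⟩)

omit [ModSite.HasSheafHom (O := P.sheaf) (pushO ι)] [DCoh.HasSheafHom (pushO ι)] in
lemma rels_oneP {W : P.Opens} (hW : IsAffineOpen W) :
    VectorBundles.RefHullStalk.Rels (pushO ι) (fun _ : PUnit.{u + 1} => oneP ι W)
      (fun (a : RingHom.ker (ι.app W).hom) (_ : PUnit.{u + 1}) => (a : Γ(P, W))) := by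
  refine ⟨fun a => ?_, fun y hy c hc => ?_⟩
  · rw [Fintype.sum_unique]
    exact (smul_oneP_eq_zero_iff ι W _).2 a.2
  letI : Algebra Γ(P, W) (P.presheaf.stalk y) := (P.presheaf.germ W y hy).hom.toAlgebra
  haveI : IsLocalization.AtPrime (P.presheaf.stalk y) (hW.primeIdealOf ⟨y, hy⟩).asIdeal :=
    hW.isLocalization_stalk ⟨y, hy⟩
  obtain ⟨a, b, hab⟩ := IsLocalization.exists_mk'_eq (hW.primeIdealOf ⟨y, hy⟩).asIdeal.primeCompl (c ⟨⟩)
  have hb : IsUnit (P.presheaf.germ W y hy b.1) :=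
    IsLocalization.map_units (P.presheaf.stalk y) b
  have hca : c ⟨⟩ * P.presheaf.germ W y hy b.1 = P.presheaf.germ W y hy a := by
    rw [← hab]
    exact IsLocalization.mk'_spec (P.presheaf.stalk y) a b
  rw [Fintype.sum_unique] at hc
  have h0 : germ (pushO ι) y hy (a • oneP ι W) = 0 := by
    rw [germ_smul, ← hca, mul_comm, mul_smul]
    show _ • (c default • germ (pushO ι) y hy (oneP ι W)) = 0
    rw [hc, smul_zero]
  haveI : (pushO ι).IsQuasicoherent :=
    haveI : (Coh.structureModule X).IsQuasicoherent := KTheory.LocFree.isQCoh (LocFree.isFinLocFree_unit X)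
    QCohMod.isQCoh_pushforward (M := Coh.structureModule X) ι
  obtain ⟨u, hu, hu0⟩ := QCohMod.exists_smul_eq_zero_of_germ_eq_zero (pushO ι) hW y hy _ h0
  obtain ⟨v, hv⟩ := (Scheme.mem_basicOpen P u y hy).1 hu
  obtain ⟨w, hw⟩ := hb
  have hmem : u * a ∈ RingHom.ker (ι.app W).hom := by
    rw [RingHom.mem_ker]
    refine (smul_oneP_eq_zero_iff ι W (u * a)).1 ?_
    rw [mul_smul, hu0]
  have hc' : c = ((↑v⁻¹ : P.presheaf.stalk y) * ↑w⁻¹) •
      (fun _ : PUnit.{u + 1} => P.presheaf.germ W y hy (u * a)) := by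
    funext i
    obtain ⟨⟩ := i
    rw [Pi.smul_apply, smul_eq_mul, map_mul, ← hv, ← hca, ← hw]
    calc c ⟨⟩ = (↑v⁻¹ * ↑v) * (c ⟨⟩ * (↑w⁻¹ * ↑w)) := by
          rw [Units.inv_mul, Units.inv_mul, one_mul, mul_one]
      _ = _ := by ring
  rw [hc']
  exact Submodule.smul_mem _ _ (Submodule.subset_span ⟨⟨u * a, hmem⟩, rfl⟩)

lemma ev1_injective (G : P.Modules) {W : P.Opens} (hW : IsAffineOpen W) :
    Function.Injective (ev1 ι G W) := by
  intro h h' e
  refine (ConcreteCategory.bijective_of_isIso ((cmp ι G).hom.app W)).1 ?_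
  refine (ConcreteCategory.bijective_of_isIso ((CohTwo.SheafHomIso.iso (pushO ι) G).hom.app W)).1 ?_
  refine Subtype.ext (funext fun ⟨y, hy⟩ => ?_)
  refine VectorBundles.RefHullStalk.stalkHom_ext (spans_oneP ι hW) hy fun _ => ?_
  rw [SheafHom.iso_hom_val, SheafHom.iso_hom_val]
  exact congrArg (germ G y hy) e

omit [IsClosedImmersion ι] [ModSite.HasSheafHom (O := P.sheaf) (pushO ι)] [DCoh.HasSheafHom (pushO ι)] in
lemma app_inv_hom {M N : P.Modules} (e : M ≅ N) (W : P.Opens) (x : Γ(N, W)) :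
    e.hom.app W (e.inv.app W x) = x :=
  congrArg (fun φ => Scheme.Modules.Hom.app φ W x) e.inv_hom_id

set_option maxHeartbeats 1000000 in
lemma exists_ev1_eq (G : P.Modules) {W : P.Opens} (hW : IsAffineOpen W) (s : Γ(G, W))
    (hs : ∀ a : Γ(P, W), ι.app W a = 0 → a • s = 0) : ∃ h, ev1 ι G W h = s := by
  obtain ⟨θ, hθ⟩ := VectorBundles.RefHullStalk.exists_section G (spans_oneP ι hW) (rels_oneP ι hW)
    (le_refl W) (fun _ => s) fun a => by
      rw [Fintype.sum_unique, QCohMod.resFun_self]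
      exact hs _ a.2
  let h₀ : Γ((DCoh.sheafHom (pushO ι)).obj G, W) := (CohTwo.SheafHomIso.iso (pushO ι) G).inv.app W θ
  refine ⟨(cmp ι G).inv.app W h₀, ?_⟩
  have e1 : (cmp ι G).hom.app W ((cmp ι G).inv.app W h₀) = h₀ := app_inv_hom (cmp ι G) W h₀
  have e2 : (CohTwo.SheafHomIso.iso (pushO ι) G).hom.app W h₀ = θ :=
    app_inv_hom (CohTwo.SheafHomIso.iso (pushO ι) G) W θ
  refine VectorBundles.RefHullStalk.res_ext_germ G fun y hy => ?_
  show germ G y hy (SheafHom.evSec (pushO ι) ((cmp ι G).hom.app W ((cmp ι G).inv.app W h₀)) (oneP ι W)) = _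
  rw [e1, ← SheafHom.iso_hom_val, e2]
  exact hθ y hy ⟨⟩

end Groth.Duality.FundLocal
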