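import Groth.Agent.Duality.FundLocal.Theta
import Mathlib.RingTheory.Regular.RegularSequence
import Mathlib.Algebra.Module.Injective

/-!
# The pairing is bijective along a regular sequence
-/

set_option autoImplicit false

universe u v w

namespace Groth.Duality.FundLocal

variable {A : Type u} [CommRing A] {N : ℕ → Type u} [∀ q, AddCommGroup (N q)] [∀ q, Module A (N q)]
  {d : ∀ q, N q →ₗ[A] N (q + 1)}

/-- What is assumed of each term. -/
def IsDivisible (N : ℕ → Type u) [∀ q, AddCommGroup (N q)] [∀ q, Module A (N q)] : Prop :=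
  ∀ (q : ℕ) (J : Ideal A) (x : A), IsSMulRegular (A ⧸ J) x → ∀ w : N q, (∀ a ∈ J, a • w = 0) →
    ∃ v : N q, (∀ a ∈ J, a • v = 0) ∧ x • v = w

/-- Injective modules are divisible in this sense. -/
theorem isDivisible_of_injective (h : ∀ q, Module.Injective A (N q)) : IsDivisible (A := A) N := by
  intro q J x hx w hw
  let f : A ⧸ J →ₗ[A] N q := Submodule.liftQ J (LinearMap.toSpanSingleton A (N q) w) fun a ha => hw a ha
  obtain ⟨g, hg⟩ := (h q).out (DistribSMul.toLinearMap A (A ⧸ J) x) hx f
  refine ⟨g (Submodule.Quotient.mk 1), fun a ha => ?_, ?_⟩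
  · rw [← map_smul, ← Submodule.Quotient.mk_smul, smul_eq_mul, mul_one,
      (Submodule.Quotient.mk_eq_zero J).2 ha, map_zero]
  · rw [← map_smul]
    refine (hg (Submodule.Quotient.mk 1)).trans ?_
    simp only [f]
    erw [Submodule.liftQ_apply]
    exact one_smul A w

/-- Boundaries of annihilated cochains. -/
def IsBd (d : ∀ q, N q →ₗ[A] N (q + 1)) (I : Ideal A) : ∀ r : ℕ, N r → Prop
  | 0, z => z = 0
  | q + 1, z => ∃ w : N q, (∀ a ∈ I, a • w = 0) ∧ d q w = z

/-- The list is regular, read from the last entry. -/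
def RegList : List A → Prop
  | [] => True
  | x :: t => RegList t ∧ IsSMulRegular (A ⧸ Ideal.ofList t) x

theorem regList_reverse {xs : List A} (h : RingTheory.Sequence.IsWeaklyRegular A xs) :
    RegList xs.reverse := by
  induction xs using List.reverseRecOn with
  | nil => exact trivial
  | append_singleton ys x ih =>
    obtain ⟨h1, h2⟩ := (RingTheory.Sequence.isWeaklyRegular_append_iff A ys [x]).1 h
    rw [List.reverse_append, List.reverse_singleton, List.singleton_append]
    refine ⟨ih h1, ?_⟩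
    rw [RingTheory.Sequence.isWeaklyRegular_cons_iff] at h2
    have e : (Ideal.ofList ys • ⊤ : Submodule A A) = Ideal.ofList ys.reverse := by
      simp [Ideal.ofList]
    exact ((Submodule.quotEquivOfEq _ _ e).isSMulRegular_congr x).1 h2.1

section Step

variable {ι : Type v} (f f' φ : ι → A) (x : A) (hf : ∀ a, f a = f' a + x * φ a)

include hf in
lemma Desc.del_indicator : ∀ {q : ℕ} {e : List ι → N q} {n : ℕ} {v : List ι → N 0},
    Desc d f' q e n v →
      Desc d f q (fun s => del φ s e) (n + 1) (fun s => ((-1 : A) ^ q) • del φ s v)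
  | 0, e, n, v, h => fun s hs => by
    show ((-1 : A) ^ 0) • del φ s v = del φ s e
    rw [pow_zero, one_smul]
    exact del_congr φ s v e fun t ht => h t (by omega)
  | q + 1, e, n, v, ⟨c, hc, hv⟩ => by
    refine ⟨fun s => del φ s c, fun s hs => ?_, ?_⟩
    · rw [del_map']
      exact del_congr φ s _ e fun t ht => hc t (by omega)
    · have h := (Desc.del_indicator hv).smul f (-1)
      simp only [smul_smul, ← pow_succ'] at h
      refine h.congr f fun s _ => ?_
      rw [neg_smul, one_smul, funext hf, del_family_add, del_family_smul, del_del, smul_zero, add_zero,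
        del_anticomm φ f' s c, neg_neg]

end Step

variable (hd : IsExactCx d)

/-- Reduction from a smaller ideal. -/
def toI {J I : Ideal A} (h : J ≤ I) : MQ d J →ₗ[A] MQ d I :=
  Submodule.mapQ _ _ LinearMap.id fun _ hm => Submodule.smul_mono_left h hm

lemma toI_cl {J I : Ideal A} (h : J ≤ I) (v : N 0) (hv : d 0 v = 0) :
    toI h (cl d J v hv) = cl d I v hv := rfl

/-- The connecting step. -/
theorem theta_connect {J I : Ideal A} (hJI : J ≤ I) (x : I) {r : ℕ} (z : annCoc d I (r + 1))
    (w : annCoc d J r) (v : N r) (hJv : ∀ a ∈ J, a • v = 0) (hdv : d r v = z.1)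
    (hxv : (x : A) • v = w.1) (l : List J) (hl : l.length = r) :
    theta hd z (x :: l.map (Submodule.inclusion hJI)) =
      ((-1 : A) ^ r) • toI hJI (theta hd w l) := by
  let f : Option J → A := fun a => a.elim (x : A) fun b => (b : A)
  let f' : Option J → A := fun a => a.elim 0 fun b => (b : A)
  let φ : Option J → A := fun a => a.elim 1 fun _ => 0
  have hf : ∀ a, f a = f' a + (x : A) * φ a := fun a => by cases a <;> simp [f, f', φ]
  have hfI : ∀ a, f a ∈ I := fun a => by
    cases a with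
    | none => exact x.2
    | some b => exact hJI b.2
  have hf'J : ∀ a, f' a ∈ J := fun a => by cases a <;> simp [f']
  obtain ⟨v', hv', hv'0, -⟩ := exists_start hd w f' hf'J
  have hstep := Desc.del_indicator f f' φ (x : A) hf hv'
  have h : Desc d f (r + 1) (start z.1) 0 (fun s => ((-1 : A) ^ r) • del φ s v') := by
    refine ⟨start v, fun s hs => ?_, hstep.congr f fun s hs => ?_⟩
    · obtain rfl := List.length_eq_zero_iff.1 hs
      exact hdv
    · obtain ⟨a, rfl⟩ := List.length_eq_one_iff.1 hs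
      rw [del_cons, del_cons, del_nil, del_nil, sub_zero, sub_zero]
      cases a with
      | none =>
        show (1 : A) • w.1 = (x : A) • v
        rw [one_smul, hxv]
      | some b =>
        show (0 : A) • w.1 = (b : A) • v
        rw [zero_smul, hJv _ b.2]
  have hval : ((-1 : A) ^ r) • del φ (none :: l.map some) v' = ((-1 : A) ^ r) • v' (l.map some) := by
    rw [del_cons, del_eq_zero φ (l.map some) fun a ha => by
      obtain ⟨b, -, rfl⟩ := List.mem_map.1 ha
      rfl, sub_zero]
    show _ • ((1 : A) • _) = _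
    rw [one_smul]
  have h0 : d 0 (v' (l.map some)) = 0 := hv'0 _ (by simpa using hl)
  have e1 := theta_eq hd z f hfI rfl h (none :: l.map some) (by simpa using hl)
    (by rw [hval, map_smul, h0, smul_zero])
  have e2 := theta_eq hd w f' hf'J rfl hv' (l.map some) (by simpa using hl) h0
  rw [List.map_cons, List.map_map] at e1
  rw [List.map_map, show List.map ((fun a => (⟨f' a, hf'J a⟩ : J)) ∘ some) l = l from List.map_id l] at e2
  rw [show x :: l.map (Submodule.inclusion hJI) =
    (⟨f none, hfI none⟩ : I) :: List.map ((fun a => (⟨f a, hfI a⟩ : I)) ∘ some) l from rfl, e1, e2, toI_cl,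
    cl, cl, ← Submodule.Quotient.mk_smul]
  exact congrArg Submodule.Quotient.mk (Subtype.ext hval)

include hd in
/-- The main algebra: acyclicity above the length and bijectivity at the length. -/
theorem theta_main (hdiv : IsDivisible (A := A) N) : ∀ (lv : List A), RegList lv →
    ∀ (I : Ideal A), I = Ideal.ofList lv → ∀ l : List I, List.map Subtype.val l = lv →
      (∀ q, lv.length < q → ∀ z ∈ annCoc d I q, IsBd d I q z) ∧
      (∀ m : MQ d I, ∃ z : annCoc d I lv.length, theta hd z l = m) ∧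
      ∀ z : annCoc d I lv.length, theta hd z l = 0 → IsBd d I lv.length z.1
  | [], _, I, hI, l, hl => by
    obtain rfl : l = [] := List.map_eq_nil_iff.1 hl
    rw [Ideal.ofList_nil] at hI
    subst hI
    have key : ∀ z : annCoc d (⊥ : Ideal A) 0, theta hd z [] = cl d ⊥ z.1 z.2.1 := fun z =>
      theta_eq hd z (fun a : PEmpty.{1} => a.elim) (fun a => a.elim) (e := fun _ => z.1) rfl
        (v := fun _ => z.1) (fun _ _ => rfl) [] rfl z.2.1
    refine ⟨fun q hq z hz => ?_, fun m => ?_, fun z hz => ?_⟩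
    · obtain ⟨q, rfl⟩ : ∃ p, q = p + 1 := ⟨q - 1, by simp at hq; omega⟩
      obtain ⟨y, hy⟩ := hd.exact q z hz.1
      exact ⟨y, fun a ha => by rw [Ideal.mem_bot.1 ha, zero_smul], hy⟩
    · obtain ⟨⟨m, hm⟩, rfl⟩ := Submodule.Quotient.mk_surjective _ m
      exact ⟨⟨m, hm, fun a ha => by rw [Ideal.mem_bot.1 ha, zero_smul]⟩, key _⟩
    · rw [key, cl_eq_zero_iff, Submodule.bot_smul] at hz
      exact hz
  | x :: t, ⟨ht, hx⟩, I, hI, l, hl => by
    obtain ⟨y, lt, rfl, hy, hlt⟩ := List.map_eq_cons_iff.1 hl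
    have hJI : Ideal.ofList t ≤ I := by rw [hI, Ideal.ofList_cons]; exact le_sup_right
    obtain ⟨lJ, hlJ⟩ : ∃ lJ : List (Ideal.ofList t), List.map Subtype.val lJ = t :=
      ⟨t.attach.map fun a => ⟨a.1, Ideal.subset_span a.2⟩, by simp [List.map_map, Function.comp_def]⟩
    have hlt' : lt = lJ.map (Submodule.inclusion hJI) := by
      refine List.map_injective_iff.2 Subtype.val_injective ?_
      rw [List.map_map]
      exact hlt.trans hlJ.symm
    have hlen : lJ.length = t.length := by rw [← List.length_map (as := lJ), hlJ]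
    obtain ⟨ihA, ihS, ihI⟩ := theta_main hdiv t ht _ rfl lJ hlJ
    have hmemI : ∀ a : A, a ∈ I → ∃ c, ∃ j ∈ Ideal.ofList t, c * (y : A) + j = a := fun a ha => by
      rw [hI, Ideal.ofList_cons] at ha
      obtain ⟨i, hi, j, hj, e⟩ := Submodule.mem_sup.1 ha
      obtain ⟨c, rfl⟩ := Ideal.mem_span_singleton'.1 hi
      exact ⟨c, j, hj, by rw [hy, e]⟩
    have hann : ∀ {q : ℕ} (z : N q), (∀ a ∈ Ideal.ofList t, a • z = 0) → (y : A) • z = 0 →
        ∀ a ∈ I, a • z = 0 := fun z h1 h2 a ha => by
      obtain ⟨c, j, hj, rfl⟩ := hmemI a ha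
      rw [add_smul, mul_smul, h2, smul_zero, h1 j hj, add_zero]
    have hreg : IsSMulRegular (A ⧸ Ideal.ofList t) (y : A) := hy ▸ hx
    refine ⟨fun q hq z hz => ?_, fun m => ?_, fun z hz => ?_⟩
    · obtain ⟨p, rfl⟩ : ∃ p, q = p + 2 := ⟨q - 2, by simp at hq; omega⟩
      obtain ⟨v, hJv, hdv⟩ := ihA (p + 2) (by simp at hq; omega) z ⟨hz.1, fun a ha => hz.2 a (hJI ha)⟩
      obtain ⟨s, hJs, hds⟩ := ihA (p + 1) (by simp at hq; omega) ((y : A) • v)
        ⟨by rw [map_smul, hdv, hz.2 _ y.2], fun a ha => by rw [smul_comm, hJv a ha, smul_zero]⟩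
      obtain ⟨s', hJs', hxs'⟩ := hdiv p _ _ hreg s hJs
      refine ⟨v - d p s', hann _ (fun a ha => ?_) ?_, by rw [map_sub, hdv, hd.dd, sub_zero]⟩
      · rw [smul_sub, hJv a ha, ← map_smul, hJs' a ha, map_zero, sub_zero]
      · rw [smul_sub, ← map_smul, hxs', hds, sub_self]
    · obtain ⟨m', hm'⟩ : ∃ m' : MQ d (Ideal.ofList t), toI hJI m' = m := by
        obtain ⟨m, rfl⟩ := Submodule.Quotient.mk_surjective _ m
        exact ⟨Submodule.Quotient.mk m, rfl⟩
      obtain ⟨w, hw⟩ := ihS (((-1 : A) ^ t.length) • m')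
      obtain ⟨v, hJv, hxv⟩ := hdiv t.length _ _ hreg w.1 w.2.2
      let z : annCoc d I (t.length + 1) := ⟨d t.length v, hd.dd _ _, hann _
        (fun a ha => by rw [← map_smul, hJv a ha, map_zero]) (by rw [← map_smul, hxv, w.2.1])⟩
      refine ⟨z, ?_⟩
      show theta hd z (y :: lt) = m
      rw [hlt', theta_connect hd hJI y z w v hJv rfl hxv lJ hlen, hw, map_smul, smul_smul, ← pow_add,
        ← two_mul, pow_mul, neg_one_sq, one_pow, one_smul, hm']
    · obtain ⟨v, hJv, hdv⟩ := ihA (t.length + 1) (Nat.lt_succ_self _) z.1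
        ⟨z.2.1, fun a ha => z.2.2 a (hJI ha)⟩
      let w : annCoc d (Ideal.ofList t) t.length := ⟨(y : A) • v,
        by rw [map_smul, hdv]; exact z.2.2 _ y.2, fun a ha => by rw [smul_comm, hJv a ha, smul_zero]⟩
      change theta hd z (y :: lt) = 0 at hz
      rw [hlt', theta_connect hd hJI y z w v hJv hdv rfl lJ hlen] at hz
      have h1 : toI hJI (theta hd w lJ) = 0 := by
        have := congrArg (fun m => ((-1 : A) ^ t.length) • m) hz
        simpa [smul_smul, ← pow_add, ← two_mul, pow_mul] using this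
      obtain ⟨m, hm⟩ : ∃ m, theta hd w lJ = (y : A) • m := by
        obtain ⟨⟨m0, hm0⟩, e⟩ := Submodule.Quotient.mk_surjective _ (theta hd w lJ)
        rw [← e] at h1
        replace h1 : m0 ∈ I • LinearMap.ker (d 0) :=
          (cl_eq_zero_iff d I (v := m0) hm0).1 h1
        rw [hI, Ideal.ofList_cons, Submodule.sup_smul, Submodule.ideal_span_singleton_smul] at h1
        obtain ⟨a, ha, b, hb, hab⟩ := Submodule.mem_sup.1 h1
        obtain ⟨m, hm, rfl⟩ := (Submodule.mem_smul_pointwise_iff_exists _ _ _).1 ha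
        refine ⟨Submodule.Quotient.mk ⟨m, hm⟩, ?_⟩
        rw [← e, ← Submodule.Quotient.mk_smul]
        refine cl_eq_of_sub_mem d _ (v' := (y : A) • m) hm0 (by rw [map_smul, LinearMap.mem_ker.1 hm, smul_zero]) ?_
        rw [← hab, hy, add_sub_cancel_left]
        exact hb
      obtain ⟨w', hw'⟩ := ihS m
      have h2 : theta hd (w + (-(y : A)) • w') lJ = 0 := by
        rw [theta_add, theta_smul, hw', hm, neg_smul, add_neg_cancel]
      have h3 := ihI _ h2
      obtain ⟨u, hJu, hyu⟩ : ∃ u : N t.length, (∀ a ∈ Ideal.ofList t, a • u = 0) ∧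
          (d t.length u = 0 ∧ (y : A) • u = (w + (-(y : A)) • w').1) := by
        generalize (w + (-(y : A)) • w') = W at h3 ⊢
        obtain ⟨W, hW⟩ := W
        revert W
        generalize t.length = k
        intro W hW h3
        cases k with
        | zero => exact ⟨0, fun a _ => smul_zero a, map_zero _, (smul_zero _).trans h3.symm⟩
        | succ k =>
          obtain ⟨s, hJs, hds⟩ := h3
          obtain ⟨s', hJs', hxs'⟩ := hdiv k _ _ hreg s hJs
          exact ⟨d k s', fun a ha => by rw [← map_smul, hJs' a ha, map_zero], hd.dd _ _,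
            by rw [← map_smul, hxs']; exact hds⟩
      refine ⟨v - w'.1 - u, hann _ (fun a ha => ?_) ?_, ?_⟩
      · rw [smul_sub, smul_sub, hJv a ha, w'.2.2 a ha, hJu a ha, sub_zero, sub_zero]
      · rw [smul_sub, smul_sub, hyu.2]
        show (y : A) • v - (y : A) • w'.1 - ((y : A) • v + (-(y : A)) • w'.1) = 0
        rw [neg_smul]
        abel
      · rw [map_sub, map_sub, hdv, w'.2.1, hyu.1, sub_zero, sub_zero]

/-- Semilinear maps of complexes respect the pairing. -/
theorem theta_natural {A' : Type u} [CommRing A'] {σ : A →+* A'} {N' : ℕ → Type u}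
    [∀ q, AddCommGroup (N' q)] [∀ q, Module A' (N' q)] {d' : ∀ q, N' q →ₗ[A'] N' (q + 1)}
    (hd' : IsExactCx d') (g : ∀ q, N q →ₛₗ[σ] N' q) (hg : ∀ q x, g (q + 1) (d q x) = d' q (g q x))
    {I : Ideal A} {I' : Ideal A'} (hII' : ∀ a ∈ I, σ a ∈ I') {r : ℕ} (z : annCoc d I r)
    (z' : annCoc d' I' r) (hz : g r z.1 = z'.1) (l : List I) (hl : l.length = r) :
    ∃ (v : N 0) (hv : d 0 v = 0) (hv' : d' 0 (g 0 v) = 0), theta hd z l = cl d I v hv ∧
      theta hd' z' (List.map (fun a : I => (⟨σ (a : A), hII' a a.2⟩ : I')) l) = cl d' I' (g 0 v) hv' := by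
  obtain ⟨v, hv, hv0, -⟩ := exists_start hd z (fun a : I => (a : A)) fun a => a.2
  have hv' : d' 0 (g 0 (v l)) = 0 := by rw [← hg, hv0 l hl, map_zero]
  refine ⟨v l, hv0 l hl, hv', ?_, ?_⟩
  · have := theta_eq hd z (fun a : I => (a : A)) (fun a => a.2) rfl hv l hl (hv0 l hl)
    rwa [show List.map (fun a : I => (⟨(a : A), a.2⟩ : I)) l = l from List.map_id l] at this
  · exact theta_eq hd' z' (fun a : I => σ (a : A)) (fun a => hII' a a.2)
      (e := fun s => g r (start z.1 s)) hz (hv.map g hg _) l hl hv'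

end Groth.Duality.FundLocal
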