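import Groth.Agent.CohBase.SecComplex
import Groth.Agent.QCohMod.Stalk
import Groth.Agent.PicAux.Sections
import Groth.Agent.KTheory.LocFree
import Mathlib.Algebra.Homology.ShortComplex.HomologicalComplex

/-!
# Identifying a homology sheaf by sections over a basis
-/

set_option autoImplicit false

universe u

open CategoryTheory CategoryTheory.Limits AlgebraicGeometry TopologicalSpace HomologicalComplex

namespace Groth.Duality.FundLocal

variable {P : Scheme.{u}} (K : CochainComplex P.Modules ℕ)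

/-- The cycles as a left exact sequence. -/
noncomputable def cyclesSC (r : ℕ) : ShortComplex P.Modules :=
  ShortComplex.mk (K.iCycles r) (K.d r (r + 1)) (K.iCycles_d r (r + 1))

lemma cyclesSC_exact (r : ℕ) : (cyclesSC K r).Exact :=
  (cyclesSC K r).exact_of_f_is_kernel (K.cyclesIsKernel r (r + 1) (by simp))

instance (r : ℕ) : Mono (cyclesSC K r).f := inferInstanceAs (Mono (K.iCycles r))

lemma iCycles_app_injective (r : ℕ) (U : P.Opens) : Function.Injective ((K.iCycles r).app U) := by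
  have : Mono ((CohBase.toAbF P).map (K.iCycles r)) := inferInstance
  exact (AddCommGrpCat.mono_iff_injective _).1
    (inferInstanceAs (Mono (((sheafToPresheaf _ _).map ((CohBase.toAbF P).map (K.iCycles r))).app (Opposite.op U))))

lemma exists_cycle {r : ℕ} {U : P.Opens} (h : Γ(K.X r, U)) (hd : (K.d r (r + 1)).app U h = 0) :
    ∃ z : Γ(K.cycles r, U), (K.iCycles r).app U z = h :=
  TopCat.Sheaf.sections_exact_of_left_exact (X := P.toTopCat)
    ((cyclesSC_exact K r).map (CohBase.toAbF P))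
    (inferInstanceAs (Mono ((CohBase.toAbF P).map (cyclesSC K r).f))) h hd

variable {K} {r : ℕ} {T : P.Modules} (Φ : K.cycles r ⟶ T) (Basic : P.Opens → Prop)
  (hB : ∀ (x : P) (V : P.Opens), x ∈ V → ∃ W, Basic W ∧ x ∈ W ∧ W ≤ V)

include hB in
lemma hom_eq_zero {M N : P.Modules} (φ : M ⟶ N) (h : ∀ U, Basic U → ∀ m, φ.app U m = 0) : φ = 0 := by
  refine Scheme.Modules.hom_ext _ _ fun V => AddCommGrpCat.ext fun m => ?_
  refine Groth.PicAux.res_ext (M := N) (fun W : {W : P.Opens // Basic W ∧ W ≤ V} => W.1) (fun W => W.2.2)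
    (fun x hx => ?_) fun W => ?_
  · obtain ⟨W, hW, hxW, hWV⟩ := hB x V hx
    exact Opens.mem_iSup.2 ⟨⟨W, hW, hWV⟩, hxW⟩
  · rw [← Groth.PicAux.app_res φ W.2.2 m, h W.1 W.2.1]
    exact (map_zero _).symm

include hB in
/-- The homology is `T` when `Φ` is locally surjective with kernel the boundaries. -/
theorem nonempty_homology_iso
    (hsurj : ∀ U, Basic U → Function.Surjective (Φ.app U))
    (hbd : ∀ U, Basic U → ∀ w : Γ(K.X ((ComplexShape.up ℕ).prev r), U),
      Φ.app U ((K.toCycles ((ComplexShape.up ℕ).prev r) r).app U w) = 0)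
    (hker : ∀ U, Basic U → ∀ z : Γ(K.cycles r, U), Φ.app U z = 0 →
      ∃ w, (K.toCycles ((ComplexShape.up ℕ).prev r) r).app U w = z) :
    Nonempty (K.homology r ≅ T) := by
  have h0 : K.toCycles ((ComplexShape.up ℕ).prev r) r ≫ Φ = 0 := hom_eq_zero Basic hB _ fun U hU w => hbd U hU w
  let desc : K.homology r ⟶ T :=
    (K.homologyIsCokernel _ r rfl).desc (CokernelCofork.ofπ Φ h0)
  have hdesc : K.homologyπ r ≫ desc = Φ :=
    (K.homologyIsCokernel _ r rfl).fac (CokernelCofork.ofπ Φ h0) WalkingParallelPair.one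
  have key : ∀ (x : P) (z : (K.cycles r).presheaf.stalk x),
      (QCohMod.stalk x).map desc ((QCohMod.stalk x).map (K.homologyπ r) z) = (QCohMod.stalk x).map Φ z := by
    intro x z
    rw [← hdesc, Functor.map_comp]
    rfl
  suffices IsIso desc from ⟨asIso desc⟩
  refine QCohMod.isIso_of_stalk _ fun x => (ConcreteCategory.isIso_iff_bijective _).2 ⟨?_, fun t => ?_⟩
  · rw [injective_iff_map_eq_zero]
    intro y hy
    obtain ⟨z, rfl⟩ := (QCohMod.epi_iff_stalk (K.homologyπ r)).1 inferInstance x y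
    have hy : (QCohMod.stalk x).map Φ z = 0 := (key x z).symm.trans hy
    obtain ⟨V, hxV, s, rfl⟩ := QCohMod.exists_germ (K.cycles r) x z
    rw [QCohMod.stalk_map_germ] at hy
    obtain ⟨W₀, hW₀V, hW₀V', hxW₀, e⟩ := KTheory.LocFree.exists_res_eq hxV hxV (Φ.app V s) 0
      (hy.trans (map_zero _).symm)
    obtain ⟨W, hW, hxW, hWW₀⟩ := hB x W₀ hxW₀
    have e' : Φ.app W (PicAux.res _ (hWW₀.trans hW₀V) s) = 0 := by
      rw [PicAux.app_res, ← PicAux.res_res hW₀V hWW₀, e, PicAux.res_zero, PicAux.res_zero]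
    obtain ⟨w, hw⟩ := hker W hW _ e'
    rw [← QCohMod.germ_res (K.cycles r) (hWW₀.trans hW₀V) x hxW, KTheory.LocFree.qres_eq, ← hw,
      ← QCohMod.stalk_map_germ]
    refine congr($((((QCohMod.stalk x).map_comp _ _).symm.trans
      (congrArg (QCohMod.stalk x).map (K.toCycles_comp_homologyπ _ r))).trans
        ((QCohMod.stalk x).map_zero _ _)) (QCohMod.germ _ x hxW w))
  · obtain ⟨V, hxV, s, rfl⟩ := QCohMod.exists_germ T x t
    obtain ⟨W, hW, hxW, hWV⟩ := hB x V hxV
    obtain ⟨z, hz⟩ := hsurj W hW (PicAux.res T hWV s)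
    refine ⟨(QCohMod.stalk x).map (K.homologyπ r) (QCohMod.germ _ x hxW z), ?_⟩
    rw [key, QCohMod.stalk_map_germ, hz, ← KTheory.LocFree.qres_eq, QCohMod.germ_res]

end Groth.Duality.FundLocal
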