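import Groth.Agent.Duality.FundLocal.Global
import Groth.Agent.LocFree.Hom
import Groth.Agent.KoszulLCI.Kinds

/-!
# Forms of the fundamental local isomorphism
-/

set_option autoImplicit false
set_option linter.style.haveILetI false

universe u

open CategoryTheory CategoryTheory.Limits AlgebraicGeometry

noncomputable section

namespace Groth.Duality.FundLocal

variable {X : Scheme.{u}}

/-- The internal Hom depends on the first variable only up to isomorphism. -/
theorem nonempty_sheafHom_congr {L L' : X.Modules} [DCoh.HasSheafHom L] [DCoh.HasSheafHom L'] (e : L ≅ L') :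
    Nonempty (DCoh.sheafHom L ≅ DCoh.sheafHom L') :=
  ⟨Adjunction.rightAdjointUniq ((DCoh.sheafHomAdj L).ofNatIsoLeft ((DCoh.tensorBi (X := X)).mapIso e))
    (DCoh.sheafHomAdj L')⟩

variable {P : Scheme.{u}} (ι : X ⟶ P) [IsClosedImmersion ι] {r : ℕ}

/-- The form with an arbitrary exterior power of the conormal sheaf. -/
theorem nonempty_extSh_iso_of_isExtPow (hι : RegImm.IsRegularImmersionOfCodim RegImm.Kind.regular r ι)
    (F : P.Modules) [F.IsQuasicoherent] (L : X.Modules) (hL : ExtPow.IsExtPow r (Omega.conormal ι) L)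
    [DCoh.HasSheafHom L] [ModSite.HasSheafHom (O := P.sheaf) (pushO ι)]
    [HasInjectiveResolutions (ModSite.Mod P.sheaf)] :
    Nonempty ((ModSite.extSh (O := P.sheaf) (pushO ι) r).obj F ≅
      (Scheme.Modules.pushforward ι).obj ((DCoh.sheafHom L).obj ((Scheme.Modules.pullback ι).obj F))) := by
  haveI : DCoh.HasSheafHom (LocFree.extPow r (Omega.conormal ι)) := CohTwo.LocFreeExt.hasSheafHom _
  obtain ⟨e⟩ := nonempty_extSh_iso ι hι F
  obtain ⟨ε⟩ := LocFree.nonempty_iso_extPow hL
  obtain ⟨c⟩ := nonempty_sheafHom_congr ε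
  exact ⟨e ≪≫ (Scheme.Modules.pushforward ι).mapIso (c.app _)⟩

/-- The conormal sheaf of a regular immersion is finite locally free. -/
theorem isFinLocFree_conormal_of_regular (hι : RegImm.IsRegularImmersionOfCodim RegImm.Kind.regular r ι) :
    FlatMod.IsFinLocFree (Omega.conormal ι) := by
  refine KoszulLCI.isFinLocFree_conormal ι fun z => ?_
  obtain ⟨U, hz, hci, rs, -, hseq, hker⟩ := hι.2 z
  exact ⟨U, hz, hci, rs, KoszulLCI.seq_h1_of_koszul (KoszulLCI.seq_koszul_of_regular hseq), hker⟩

/-- The Ext sheaf of a locally free module is locally free on `X`. -/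
theorem exists_finLocFree (hι : RegImm.IsRegularImmersionOfCodim RegImm.Kind.regular r ι)
    (ωP : P.Modules) (hωP : FlatMod.IsFinLocFree ωP) [ModSite.HasSheafHom (O := P.sheaf) (pushO ι)]
    [HasInjectiveResolutions (ModSite.Mod P.sheaf)] :
    ∃ E : X.Modules, FlatMod.IsFinLocFree E ∧
      Nonempty ((Scheme.Modules.pushforward ι).obj E ≅ (ModSite.extSh (O := P.sheaf) (pushO ι) r).obj ωP) := by
  haveI : DCoh.HasSheafHom (LocFree.extPow r (Omega.conormal ι)) := CohTwo.LocFreeExt.hasSheafHom _
  haveI := KTheory.LocFree.isQCoh hωP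
  obtain ⟨e⟩ := nonempty_extSh_iso ι hι ωP
  refine ⟨_, ?_, ⟨e.symm⟩⟩
  refine KTheory.LocFree.isFinLocFree_of_iso (CohTwo.SheafHomIso.iso _ _).symm ?_
  exact LocFree.isFinLocFree_homSh (LocFree.isFinLocFree_extPow (isFinLocFree_conormal_of_regular ι hι) r)
    (LocFree.isFinLocFree_pullback ι hωP)

end Groth.Duality.FundLocal
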