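import Groth.Agent.Duality.FundLocal.Bijective
import Groth.Agent.CohBase.SecComplex
import Groth.Agent.CohBase.AffineVanishing
import Groth.Agent.CohTwo.InjectiveSections
import Groth.Agent.OmegaSheaf.ConormalSections
import Groth.Agent.OmegaSheaf.ConormalDiff
import Groth.Agent.OmegaSheaf.IdealMod
import Groth.Agent.KoszulReg.Immersion

/-!
# The pairing on affine opens of a scheme
-/

set_option autoImplicit false
set_option linter.style.haveILetI false

universe u

open CategoryTheory CategoryTheory.Limits AlgebraicGeometry TopologicalSpace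

noncomputable section

namespace Groth.Duality.FundLocal

open Groth.QCohMod (appₗ)
open Groth.CohBase (Res)

variable {P X : Scheme.{u}} (ι : X ⟶ P) (R : Res P.Modules) (U : P.Opens)

/-- Terms on `U`. -/
abbrev NU (q : ℕ) : Type u := Γ(R.A q, U)

/-- Differential on `U`. -/
def dU (q : ℕ) : NU R U q →ₗ[Γ(P, U)] NU R U (q + 1) := appₗ (R.d q) U

lemma dU_apply (q : ℕ) (x : NU R U q) : dU R U q x = (R.d q).app U x := rfl

/-- The ideal on `U`. -/
abbrev IU : Ideal Γ(P, U) := RingHom.ker (ι.app U).hom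

variable {R U}

theorem isExactCx (hR : R.Flasque) [R.Y.IsQuasicoherent] (hU : IsAffineOpen U) : IsExactCx (dU R U) where
  dd q x := Res.d_d_app q U x
  exact q x hx := Res.bd_of_cyc hR (CohBase.hVanish_of_isAffineOpen R.Y hU q) hx

theorem isDivisible (hinj : ∀ q, Injective (R.A q)) (hU : IsAffineOpen U) :
    IsDivisible (A := Γ(P, U)) (NU R U) :=
  isDivisible_of_injective fun q =>
    haveI := hinj q
    CohTwo.InjSec.injective_sections (R.A q) hU

/-- Sections of the resolved module as cocycles of degree zero. -/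
def toKer : Γ(R.Y, U) ≃ₗ[Γ(P, U)] LinearMap.ker (dU R U 0) :=
  LinearEquiv.ofBijective
    (LinearMap.codRestrict _ (appₗ R.ι U) fun m => Res.mem_cyc_zero_iff.2 ⟨m, rfl⟩)
    ⟨fun a b h => Res.ι_app_injective U congr(($h : NU R U 0)), fun z => by
      obtain ⟨m, hm⟩ := Res.mem_cyc_zero_iff.1 z.2
      exact ⟨m, Subtype.ext hm⟩⟩

variable [IsClosedImmersion ι]

lemma isConormalChart (hU : IsAffineOpen U) : OmegaSheaf.IsConormalChart ι U :=
  ⟨hU, hU.preimage ι, ι.app_surjective U hU⟩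

variable (hU : IsAffineOpen U)

/-- The pullback of a section, as a semilinear map of the cocycles. -/
def pullKer : LinearMap.ker (dU R U 0) →ₛₗ[(ι.app U).hom]
    Γ((Scheme.Modules.pullback ι).obj R.Y, ι ⁻¹ᵁ U) where
  toFun v := OmegaSh.pullSect ι R.Y U (toKer.symm v)
  map_add' a b := by rw [map_add, map_add]
  map_smul' r a := by rw [map_smul, OmegaSheaf.pullSect_smul]

include hU in
lemma pullKer_eq_zero_iff [R.Y.IsQuasicoherent] (v : LinearMap.ker (dU R U 0)) :
    pullKer ι v = 0 ↔ v ∈ IM (dU R U) (IU ι U) := by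
  obtain ⟨m, rfl⟩ := toKer.surjective v
  show OmegaSh.pullSect ι R.Y U (toKer.symm (toKer m)) = 0 ↔ _
  rw [LinearEquiv.symm_apply_apply, ((isConormalChart ι hU).pullSect_app R.Y).2 m]
  have h1 : (IU ι U • (⊤ : Submodule Γ(P, U) Γ(R.Y, U))).map (toKer (R := R)).toLinearMap =
      IU ι U • (⊤ : Submodule Γ(P, U) (LinearMap.ker (dU R U 0))) := by
    rw [Submodule.map_smul'', Submodule.map_top, LinearEquiv.range]
  have h2 : IM (dU R U) (IU ι U) = IU ι U • (⊤ : Submodule Γ(P, U) (LinearMap.ker (dU R U 0))) := by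
    apply Submodule.map_injective_of_injective (LinearMap.ker (dU R U 0)).injective_subtype
    rw [Submodule.map_smul'', Submodule.map_top, Submodule.range_subtype, IM,
      Submodule.map_comap_eq_self]
    rw [Submodule.range_subtype]
    exact Submodule.smul_le_right
  rw [h2, ← h1, Submodule.mem_map_equiv, LinearEquiv.symm_apply_apply]

/-- `M/IM → Γ(ι^* F, ι⁻¹ U)`. -/
def val [R.Y.IsQuasicoherent] : MQ (dU R U) (IU ι U) →ₛₗ[(ι.app U).hom]
    Γ((Scheme.Modules.pullback ι).obj R.Y, ι ⁻¹ᵁ U) :=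
  Submodule.liftQ _ (pullKer ι) fun v hv => (pullKer_eq_zero_iff ι hU v).2 hv

lemma val_cl [R.Y.IsQuasicoherent] (v : NU R U 0) (hv : dU R U 0 v = 0) :
    val ι hU (cl (dU R U) (IU ι U) v hv) = pullKer ι ⟨v, hv⟩ := rfl

lemma val_bijective [R.Y.IsQuasicoherent] : Function.Bijective (val ι hU (R := R)) := by
  refine ⟨(injective_iff_map_eq_zero _).2 fun m hm => ?_, fun s => ?_⟩
  · obtain ⟨v, rfl⟩ := Submodule.Quotient.mk_surjective _ m
    exact (Submodule.Quotient.mk_eq_zero _).2 ((pullKer_eq_zero_iff ι hU v).1 hm)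
  · obtain ⟨m, hm⟩ := ((isConormalChart ι hU).pullSect_app R.Y).1 s
    refine ⟨Submodule.Quotient.mk (toKer m), ?_⟩
    show OmegaSh.pullSect ι R.Y U (toKer.symm (toKer m)) = s
    rw [LinearEquiv.symm_apply_apply, hm]

/-- The conormal class of an element of the ideal. -/
def cI (a : IU ι U) : Γ(Omega.conormal ι, ι ⁻¹ᵁ U) :=
  OmegaSh.conormalSect ι U (OmegaSheaf.exists_idealSect ι.ker ⟨U, hU⟩
    (show (a : Γ(P, U)) ∈ ι.ker.ideal ⟨U, hU⟩ by rw [OmegaSheaf.ker_ideal_eq hU]; exact a.2)).choose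

lemma cI_eq (a : IU ι U) (k : Γ(ClSub.idealMod ι.ker, U)) (hk : OmegaSh.idealSect ι.ker U k = a) :
    cI ι hU a = OmegaSh.conormalSect ι U k := by
  refine congrArg (OmegaSh.conormalSect ι U) (OmegaSheaf.idealSect_injective ι.ker U ?_)
  refine Eq.trans ?_ hk.symm
  exact (OmegaSheaf.exists_idealSect ι.ker ⟨U, hU⟩
    (show (a : Γ(P, U)) ∈ ι.ker.ideal ⟨U, hU⟩ by rw [OmegaSheaf.ker_ideal_eq hU]; exact a.2)).choose_spec

include hU in
lemma exists_sect (a : IU ι U) : ∃ k : Γ(ClSub.idealMod ι.ker, U), OmegaSh.idealSect ι.ker U k = a :=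
  OmegaSheaf.exists_idealSect ι.ker ⟨U, hU⟩
    (show (a : Γ(P, U)) ∈ ι.ker.ideal ⟨U, hU⟩ by rw [OmegaSheaf.ker_ideal_eq hU]; exact a.2)

lemma cI_add (a b : IU ι U) : cI ι hU (a + b) = cI ι hU a + cI ι hU b := by
  obtain ⟨k, hk⟩ := exists_sect ι hU a
  obtain ⟨k', hk'⟩ := exists_sect ι hU b
  rw [cI_eq ι hU a k hk, cI_eq ι hU b k' hk', ← map_add]
  exact cI_eq ι hU _ _ (by rw [map_add, hk, hk']; rfl)

lemma cI_smul (r : Γ(P, U)) (a : IU ι U) : cI ι hU (r • a) = ι.app U r • cI ι hU a := by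
  obtain ⟨k, hk⟩ := exists_sect ι hU a
  rw [cI_eq ι hU a k hk, ← OmegaSheaf.conormalSect_smul]
  exact cI_eq ι hU _ _ (by rw [OmegaSheaf.idealSect_smul, hk]; rfl)

lemma cI_surjective : Function.Surjective (cI ι hU) := fun y => by
  obtain ⟨k, rfl⟩ := (isConormalChart ι hU).conormalSect_surjective y
  have hk : OmegaSh.idealSect ι.ker U k ∈ IU ι U := by
    show _ ∈ RingHom.ker (ι.app U).hom
    rw [← OmegaSheaf.ker_ideal_eq (i := ι) hU]
    exact OmegaSheaf.idealSect_mem ι.ker ⟨U, hU⟩ k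
  exact ⟨⟨_, hk⟩, cI_eq ι hU _ k rfl⟩

lemma cI_eq_zero_iff (a : IU ι U) : cI ι hU a = 0 ↔ (a : Γ(P, U)) ∈ IU ι U ^ 2 := by
  obtain ⟨k, hk⟩ := exists_sect ι hU a
  rw [cI_eq ι hU a k hk, (isConormalChart ι hU).conormalSect_eq_zero_iff k, hk]

lemma cI_res {U' : P.Opens} (hU' : IsAffineOpen U') (h : U' ≤ U) (a : IU ι U) (a' : IU ι U')
    (ha : (a' : Γ(P, U')) = P.presheaf.map (homOfLE h).op (a : Γ(P, U))) :
    cI ι hU' a' = PicAux.res (Omega.conormal ι) (ι.preimage_mono h) (cI ι hU a) := by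
  obtain ⟨k, hk⟩ := exists_sect ι hU a
  rw [cI_eq ι hU a k hk]
  refine (cI_eq ι hU' a' ((ClSub.idealMod ι.ker).presheaf.map (homOfLE h).op k) ?_).trans ?_
  · rw [OmegaSheaf.idealSect_res, hk, ha]
  · exact (PicAux.res_pullSec ι (ClSub.idealMod ι.ker) h k).symm

end Groth.Duality.FundLocal
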