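import Groth.Agent.Duality.FundLocal.Koszul
import Mathlib.LinearAlgebra.Quotient.Basic

/-!
# The zigzag from an annihilated cocycle to `M/IM`

`N⁰ → N¹ → ⋯` is exact in positive degrees and `M` is the module of cocycles in degree zero.
-/

set_option autoImplicit false

universe u v w

namespace Groth.Duality.FundLocal

variable {A : Type u} [CommRing A] {ι : Type v} {κ : Type w}
variable {N : ℕ → Type u} [∀ q, AddCommGroup (N q)] [∀ q, Module A (N q)]
  (d : ∀ q, N q →ₗ[A] N (q + 1))

/-- Descending from degree `q` to degree zero along the Koszul differential of `f`. -/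
def Desc (f : ι → A) : ∀ q : ℕ, (List ι → N q) → ℕ → (List ι → N 0) → Prop
  | 0, e, n, v => ∀ s : List ι, s.length = n → v s = e s
  | q + 1, e, n, v => ∃ c : List ι → N q, (∀ s : List ι, s.length = n → d q (c s) = e s) ∧
      Desc f q (fun s => del f s c) (n + 1) v

/-- What is assumed of the complex. -/
structure IsExactCx : Prop where
  dd : ∀ q x, d (q + 1) (d q x) = 0
  exact : ∀ q x, d (q + 1) x = 0 → ∃ y, d q y = x

variable {d}

/-- Existence of a descent, vanishing on bad lists when the start does. -/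
theorem exists_desc (hd : IsExactCx d) (f : ι → A) : ∀ (q : ℕ) (e : List ι → N q) (n : ℕ),
    (∀ s : List ι, s.length = n → d q (e s) = 0) → (∀ s : List ι, s.length = n + 1 → del f s e = 0) →
    (∀ s : List ι, Bad s → e s = 0) →
    ∃ v : List ι → N 0, Desc d f q e n v ∧ (∀ s : List ι, s.length = n + q → d 0 (v s) = 0) ∧
      ∀ s : List ι, s.length = n + q → Bad s → v s = 0
  | 0, e, n, h1, _, h3 => ⟨e, fun _ _ => rfl, h1, fun s _ => h3 s⟩
  | q + 1, e, n, h1, h2, h3 => by
    classical
    let c : List ι → N q := fun s => if h : s.length = n ∧ ¬Bad s then (hd.exact q (e s) (h1 s h.1)).choose else 0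
    have hc : ∀ s : List ι, s.length = n → d q (c s) = e s := fun s hs => by
      by_cases hb : Bad s
      · rw [show c s = 0 from dif_neg fun h => h.2 hb, map_zero, h3 s hb]
      · rw [show c s = _ from dif_pos ⟨hs, hb⟩]
        exact (hd.exact q (e s) (h1 s hs)).choose_spec
    have hcb : ∀ s : List ι, Bad s → c s = 0 := fun s hb => dif_neg fun h => h.2 hb
    obtain ⟨v, hv, hv0, hvb⟩ := exists_desc hd f q (fun s => del f s c) (n + 1)
      (fun s hs => by
        rw [del_map', del_congr f s _ e (fun t ht => hc t (by omega))]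
        exact h2 s hs)
      (fun s _ => del_del f s c) (fun s hs => del_bad f s hs c hcb)
    exact ⟨v, ⟨c, hc, hv⟩, fun s hs => hv0 s (by omega), fun s hs => hvb s (by omega)⟩

lemma Desc.congr (f : ι → A) : ∀ {q : ℕ} {e e' : List ι → N q} {n : ℕ} {v : List ι → N 0},
    Desc d f q e n v → (∀ s : List ι, s.length = n → e s = e' s) → Desc d f q e' n v
  | 0, _, _, _, _, h, he => fun s hs => (h s hs).trans (he s hs)
  | _ + 1, _, _, _, _, ⟨c, hc, hv⟩, he => ⟨c, fun s hs => (hc s hs).trans (he s hs), hv⟩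

lemma Desc.add (f : ι → A) : ∀ {q : ℕ} {e e' : List ι → N q} {n : ℕ} {v v' : List ι → N 0},
    Desc d f q e n v → Desc d f q e' n v' → Desc d f q (fun s => e s + e' s) n (fun s => v s + v' s)
  | 0, _, _, _, _, _, h, h' => fun s hs => show _ + _ = _ + _ by rw [h s hs, h' s hs]
  | _ + 1, _, _, _, _, _, ⟨c, hc, hv⟩, ⟨c', hc', hv'⟩ =>
    ⟨fun s => c s + c' s, fun s hs => by rw [map_add, hc s hs, hc' s hs],
      ((hv.add f hv').congr f fun s _ => (del_add f s c c').symm)⟩

lemma Desc.smul (f : ι → A) (r : A) : ∀ {q : ℕ} {e : List ι → N q} {n : ℕ} {v : List ι → N 0},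
    Desc d f q e n v → Desc d f q (fun s => r • e s) n (fun s => r • v s)
  | 0, _, _, _, h => fun s hs => show r • _ = r • _ by rw [h s hs]
  | _ + 1, _, _, _, ⟨c, hc, hv⟩ =>
    ⟨fun s => r • c s, fun s hs => by rw [map_smul, hc s hs],
      ((hv.smul f r).congr f fun s _ => (del_smul f r s c).symm)⟩

/-- Pullback along a matrix. -/
lemma Desc.pull (T : κ → (ι →₀ A)) (f : ι → A) (g : κ → A)
    (hg : ∀ a, g a = (T a).sum fun b c => c * f b) : ∀ {q : ℕ} {e : List ι → N q} {n : ℕ} {v : List ι → N 0},
    Desc d f q e n v → Desc d g q (fun t => pull T t e) n (fun t => FundLocal.pull T t v)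
  | 0, e, _, v, h => fun t ht => pull_congr T t v e fun s hs => h s (hs.trans ht)
  | q + 1, e, _, _, ⟨c, hc, hv⟩ =>
    ⟨fun t => FundLocal.pull T t c, fun t ht => by
        rw [pull_map, pull_congr T t _ e fun s hs => hc s (hs.trans ht)],
      (hv.pull T f g hg).congr g fun t _ => pull_del T f g hg t c⟩

/-- Semilinear maps of complexes. -/
lemma Desc.map {A' : Type u} [CommRing A'] {σ : A →+* A'} {N' : ℕ → Type u}
    [∀ q, AddCommGroup (N' q)] [∀ q, Module A' (N' q)] {d' : ∀ q, N' q →ₗ[A'] N' (q + 1)}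
    (g : ∀ q, N q →ₛₗ[σ] N' q) (hg : ∀ q x, g (q + 1) (d q x) = d' q (g q x)) (f : ι → A) :
    ∀ {q : ℕ} {e : List ι → N q} {n : ℕ} {v : List ι → N 0},
    Desc d f q e n v → Desc d' (fun a => σ (f a)) q (fun s => g q (e s)) n (fun s => g 0 (v s))
  | 0, _, _, _, h => fun s hs => congrArg (g 0) (h s hs)
  | q + 1, _, _, _, ⟨c, hc, hv⟩ =>
    ⟨fun s => g q (c s), fun s hs => by rw [← hg, hc s hs],
      ((hv.map g hg f).congr _ fun s _ => del_map (g q) f s c)⟩

/-- The key vanishing: a descent of a coboundary `d w` with `del w = 0` ends in `I·M`. -/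
theorem Desc.mem_of_boundary (hd : IsExactCx d) (I : Ideal A) (f : ι → A) (hf : ∀ a, f a ∈ I) :
    ∀ (q : ℕ) (e : List ι → N (q + 1)) (n : ℕ) (v : List ι → N 0) (w : List ι → N q),
    Desc d f (q + 1) e n v → (∀ s : List ι, s.length = n → e s = d q (w s)) →
      (∀ s : List ι, s.length = n + 1 → del f s w = 0) →
      ∀ s : List ι, s.length = n + q + 1 → v s ∈ I • LinearMap.ker (d 0)
  | 0, e, n, v, w, ⟨c, hc, hv⟩, he, hw, s, hs => by
    rw [hv s (by omega)]
    show del f s c ∈ _
    rw [← sub_zero (del f s c), ← hw s (by omega), ← del_sub]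
    refine del_mem I _ f hf s _ fun t ht => ?_
    rw [LinearMap.mem_ker, map_sub, hc t (by omega), he t (by omega), sub_self]
  | q + 1, e, n, v, w, ⟨c, hc, hv⟩, he, hw, s, hs => by
    classical
    have hcw : ∀ t : List ι, t.length = n → ∃ u, d q u = c t - w t := fun t ht =>
      hd.exact q _ (by rw [map_sub, hc t ht, he t ht, sub_self])
    let u : List ι → N q := fun t => if h : t.length = n then (hcw t h).choose else 0
    have hu : ∀ t : List ι, t.length = n → d q (u t) = c t - w t := fun t ht => by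
      rw [show u t = _ from dif_pos ht]
      exact (hcw t ht).choose_spec
    refine hv.mem_of_boundary hd I f hf q _ (n + 1) v (fun t => del f t u) (fun t ht => ?_)
      (fun t _ => del_del f t u) s (by omega)
    rw [del_map', del_congr f t _ (fun t' => c t' - w t') (fun t' ht' => hu t' (by omega)), del_sub,
      hw t ht, sub_zero]

end Groth.Duality.FundLocal
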