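import Groth.Agent.Duality.FundLocal.Section

/-!
# Compatibility of the pairing with restriction
-/

set_option autoImplicit false
set_option linter.style.haveILetI false

universe u

open CategoryTheory CategoryTheory.Limits AlgebraicGeometry TopologicalSpace

noncomputable section

namespace Groth.Duality.FundLocal

open Groth.CohBase (Res)
open Groth.LocFree (extPow wedge)
open Groth.PicAux (res)

variable {P X : Scheme.{u}} (ι : X ⟶ P) (R : Res P.Modules) {U U' : P.Opens} (h : U' ≤ U)

/-- Restriction of the terms, semilinearly. -/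
def resN (q : ℕ) : NU R U q →ₛₗ[(P.presheaf.map (homOfLE h).op).hom] NU R U' q where
  toFun x := res (R.A q) h x
  map_add' a b := PicAux.res_add h a b
  map_smul' a b := PicAux.res_smul h a b

lemma resN_d (q : ℕ) (x : NU R U q) :
    resN R h (q + 1) (dU R U q x) = dU R U' q (resN R h q x) :=
  (PicAux.app_res (R.d q) h x).symm

lemma map_mem_IU {a : Γ(P, U)} (ha : a ∈ IU ι U) : P.presheaf.map (homOfLE h).op a ∈ IU ι U' := by
  rw [RingHom.mem_ker] at ha ⊢
  have e := congr($(ι.naturality (homOfLE h).op) a)
  refine e.trans ?_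
  show X.presheaf.map _ (ι.app U a) = 0
  erw [ha]
  exact map_zero _

variable [IsClosedImmersion ι] (r : ℕ) [R.Y.IsQuasicoherent] (hR : R.Flasque)
  [DCoh.HasSheafHom (extPow r (Omega.conormal ι))]

theorem elt_res (hG : Good ι r U) (hG' : Good ι r U') (z : annCoc (dU R U) (IU ι U) r)
    (z' : annCoc (dU R U') (IU ι U') r) (hz : z'.1 = res (R.A r) h z.1) :
    elt ι r hR hG' z' = res (homL ι r R) (ι.preimage_mono h) (elt ι r hR hG z) := by
  refine evLin_injective ι r hG' ?_
  rw [evLin_elt]
  refine LinearMap.ext fun x => ?_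
  have := LocFree.isQCoh_extPow r (Omega.conormal ι)
  induction x using Ega2Proj.DirImg.res_induction (extPow r (Omega.conormal ι)) (hG.1.preimage ι)
    (hG'.1.preimage ι) (ι.preimage_mono h) with
  | h0 => rw [map_zero, map_zero]
  | hsmul t y hy => rw [map_smul, map_smul, hy]
  | hadd y y' hy hy' => rw [map_add, map_add, hy, hy']
  | hres a =>
    rw [evLin_res, evLin_elt]
    obtain ⟨w, rfl⟩ := (KTheory.ExtFilt.extEquiv r (Omega.conormal ι) (hG.1.preimage ι)).surjective a
    induction w using LocFree.esec_induction with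
    | zero => rw [map_zero, PicAux.res_zero, map_zero, map_zero, PicAux.res_zero]
    | add a b ha hb => rw [map_add, PicAux.res_add, map_add, map_add, PicAux.res_add, ha, hb]
    | smul t a ha => rw [map_smul, PicAux.res_smul, map_smul, map_smul, PicAux.res_smul, ha]
    | wedge e =>
      show lamSec ι r hR hG'.1 z' (res _ _ (wedge r (Omega.conormal ι) e)) =
        res _ _ (lamSec ι r hR hG.1 z (wedge r (Omega.conormal ι) e))
      rw [show e = cI ι hG.1 ∘ lift ι r hG.1 e from funext fun j => (cI_lift ι r hG.1 e j).symm,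
        lamSec_wedge, LocFree.res_wedge]
      let l := lift ι r hG.1 e
      let l' : Fin r → IU ι U' := fun j =>
        ⟨P.presheaf.map (homOfLE h).op (l j : Γ(P, U)), map_mem_IU ι h (l j).2⟩
      have hl : (fun j => res (Omega.conormal ι) (ι.preimage_mono h) ((cI ι hG.1 ∘ l) j)) = cI ι hG'.1 ∘ l' :=
        funext fun j => (cI_res ι hG.1 hG'.1 h (l j) (l' j) rfl).symm
      rw [hl, lamSec_wedge, thetaAlt_apply, thetaAlt_apply]
      obtain ⟨v, hv, hv', e1, e2⟩ := theta_natural (isExactCx hR hG.1) (isExactCx hR hG'.1) (resN R h)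
        (resN_d R h) (fun a ha => map_mem_IU ι h ha) z z' hz.symm (List.ofFn l) (by simp)
      rw [show List.ofFn l' = List.map (fun a : IU ι U =>
          (⟨P.presheaf.map (homOfLE h).op (a : Γ(P, U)), map_mem_IU ι h a.2⟩ : IU ι U')) (List.ofFn l) from
        Eq.symm ((List.map_ofFn (f := l)).trans rfl)]
      rw [e1]
      refine (congrArg (val ι hG'.1) e2).trans ?_
      rw [val_cl, val_cl]
      obtain ⟨m, hm⟩ := (toKer (R := R) (U := U)).surjective ⟨v, hv⟩
      have hm' : toKer (res R.Y h m) = (⟨resN R h 0 v, hv'⟩ : LinearMap.ker (dU R U' 0)) := by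
        apply Subtype.ext
        refine (PicAux.app_res R.ι h m).trans ?_
        exact congrArg (res (R.A 0) h) congr(($hm : NU R U 0))
      rw [← hm, ← hm']
      show OmegaSh.pullSect ι R.Y U' (toKer.symm (toKer (res R.Y h m))) =
        res _ _ (OmegaSh.pullSect ι R.Y U (toKer.symm (toKer m)))
      rw [LinearEquiv.symm_apply_apply, LinearEquiv.symm_apply_apply]
      exact (PicAux.res_pullSec ι R.Y h m).symm

end Groth.Duality.FundLocal
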