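import Groth.Agent.Duality.FundLocal.Ann
import Groth.Agent.Duality.FundLocal.Natural
import Groth.Agent.Duality.FundLocal.Cokernel
import Groth.Prelude.Def_ModSite2
import Mathlib.CategoryTheory.Abelian.RightDerived
import Mathlib.RingTheory.Regular.Flat

/-!
# The fundamental local isomorphism
-/

set_option autoImplicit false
set_option linter.style.haveILetI false

universe u

open CategoryTheory CategoryTheory.Limits AlgebraicGeometry TopologicalSpace HomologicalComplex

noncomputable section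

namespace Groth.Duality.FundLocal

open Groth.CohBase (Res)
open Groth.LocFree (extPow)
open Groth.PicAux (res)

variable {P X : Scheme.{u}} (ι : X ⟶ P) [IsClosedImmersion ι] {r : ℕ}

/-- Good opens form a basis. -/
theorem exists_good (hι : RegImm.IsRegularImmersionOfCodim RegImm.Kind.regular r ι) (x : P) (V : P.Opens)
    (hx : x ∈ V) : ∃ W, Good ι r W ∧ x ∈ W ∧ W ≤ V := by
  by_cases hxX : x ∈ Set.range ι.base
  · obtain ⟨z, rfl⟩ := hxX
    obtain ⟨U, hzU, hci, rs, hlen, hseq, hker⟩ := hι.2 z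
    obtain ⟨g, hg, hxg⟩ := U.2.exists_basicOpen_le ⟨ι.base z, hx⟩ hzU
    obtain ⟨hB, -, -, hker'⟩ := KoszulReg.chart_basicOpen ι U.2 rs
      (KoszulReg.isKoszulRegularSeq_of_isWeaklyRegular hseq.toIsWeaklyRegular) hker g _ rfl (P.basicOpen_le g)
    refine ⟨P.basicOpen g, ⟨hB, Or.inl ⟨_, by rw [List.length_map]; exact hlen, ?_, hker'⟩⟩, hxg, hg⟩
    let _ := (P.presheaf.map (homOfLE (P.basicOpen_le g)).op).hom.toAlgebra
    have := U.2.isLocalization_of_eq_basicOpen g (homOfLE (P.basicOpen_le g)) rfl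
    exact RingTheory.Sequence.IsWeaklyRegular.of_isLocalization Γ(P, P.basicOpen g) (Submonoid.powers g)
      hseq.toIsWeaklyRegular
  · let W₀ : P.Opens := ⟨(Set.range ι.base)ᶜ, ι.isClosedEmbedding.isClosed_range.isOpen_compl⟩
    obtain ⟨_, ⟨W : P.Opens, hW, rfl⟩, hxW, hWV⟩ := P.isBasis_affineOpens.exists_subset_of_mem_open
      (show x ∈ V ⊓ W₀ from ⟨hx, hxX⟩) (V ⊓ W₀).2
    refine ⟨W, ⟨hW, Or.inr ?_⟩, hxW, fun y hy => (hWV hy).1⟩
    exact le_bot_iff.1 fun z hz => (hWV hz).2 ⟨z, rfl⟩

variable [ModSite.HasSheafHom (O := P.sheaf) (pushO ι)] [DCoh.HasSheafHom (pushO ι)]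

instance : (homO ι).Additive := by
  haveI : PreservesLimitsOfSize.{0, 0} (homO ι) :=
    (ModSite.sheafHomAdj (O := P.sheaf) (pushO ι)).rightAdjoint_preservesLimits
  haveI : PreservesBinaryBiproducts (homO ι) :=
    preservesBinaryBiproducts_of_preservesBinaryProducts _
  exact Functor.additive_of_preservesBinaryBiproducts _

variable {F : P.Modules} (I : InjectiveResolution F)

/-- The complex computing the Ext sheaves. -/
abbrev extCx : CochainComplex P.Modules ℕ := ((homO ι).mapHomologicalComplex _).obj I.cocomplex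

/-- The resolution. -/
abbrev resI : Res P.Modules := Res.ofInjective I

lemma ev1_d (q : ℕ) (U : P.Opens) (h : Γ((extCx ι I).X q, U)) :
    ev1 ι ((resI I).A (q + 1)) U (((extCx ι I).d q (q + 1)).app U h) =
      dU (resI I) U q (ev1 ι ((resI I).A q) U h) :=
  ev1_map ι (I.cocomplex.d q (q + 1)) U h

variable (r) in
/-- Cycles as annihilated cocycles. -/
def toAnn (U : P.Opens) : Γ((extCx ι I).cycles r, U) →ₗ[Γ(P, U)] annCoc (dU (resI I) U) (IU ι U) r :=
  LinearMap.codRestrict _ ((ev1 ι ((resI I).A r) U).comp (QCohMod.appₗ ((extCx ι I).iCycles r) U)) fun z => by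
    refine ⟨?_, fun a ha => ev1_killed ι _ U _ a ha⟩
    show dU (resI I) U r (ev1 ι _ U (((extCx ι I).iCycles r).app U z)) = 0
    rw [← ev1_d]
    have e : ((extCx ι I).d r (r + 1)).app U (((extCx ι I).iCycles r).app U z) = 0 :=
      congr($(congrArg (fun φ => Scheme.Modules.Hom.app φ U) ((extCx ι I).iCycles_d r (r + 1))) z)
    exact (congrArg (ev1 ι _ U) e).trans (map_zero _)

lemma toAnn_surjective {U : P.Opens} (hU : IsAffineOpen U) : Function.Surjective (toAnn ι r I U) := by
  intro a
  obtain ⟨h, hh⟩ := exists_ev1_eq ι ((resI I).A r) hU a.1 fun t ht => a.2.2 t ht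
  obtain ⟨z, hz⟩ := exists_cycle (extCx ι I) h (ev1_injective ι _ hU (((ev1_d ι I r U h).trans ((congrArg (dU (resI I) U r) hh).trans a.2.1)).trans (map_zero _).symm))
  exact ⟨z, Subtype.ext ((congrArg (ev1 ι _ U) hz).trans hh)⟩

variable [DCoh.HasSheafHom (extPow r (Omega.conormal ι))] [F.IsQuasicoherent]

/-- The isomorphism for one resolution. -/
theorem nonempty_homology_iso_homL (hι : RegImm.IsRegularImmersionOfCodim RegImm.Kind.regular r ι) :
    Nonempty ((extCx ι I).homology r ≅ (Scheme.Modules.pushforward ι).obj (homL ι r (resI I))) := by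
  haveI : (resI I).Y.IsQuasicoherent := ‹F.IsQuasicoherent›
  have hR : (resI I).Flasque := CohBase.flasque_ofInjective I
  have hinj : ∀ q, Injective ((resI I).A q) := fun q => I.injective q
  let f : ∀ U, Good ι r U → (Γ((extCx ι I).cycles r, U) →ₗ[Γ(P, U)]
      Γ((Scheme.Modules.pushforward ι).obj (homL ι r (resI I)), U)) := fun U hG =>
    { toFun := fun z => elt ι r hR hG (toAnn ι r I U z)
      map_add' := fun a b => by rw [map_add, elt_add]; rfl
      map_smul' := fun t a => by rw [map_smul, elt_smul]; rfl }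
  obtain ⟨Φ, hΦ⟩ := Ega2Proj.DirImg.exists_hom_of_basis (Good ι r) (exists_good ι hι) f
    fun U V hU hV h z => by
      refine (elt_res ι (resI I) h r hR hU hV (toAnn ι r I U z) (toAnn ι r I V (res _ h z)) ?_).symm
      show ev1 ι _ V (((extCx ι I).iCycles r).app V (res _ h z)) = _
      rw [PicAux.app_res]
      exact ev1_res ι ((resI I).A r) h (((extCx ι I).iCycles r).app U z)
  refine nonempty_homology_iso Φ (Good ι r) (exists_good ι hι) (fun U hU t => ?_) (fun U hU w => ?_)
    fun U hU z hz => ?_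
  · obtain ⟨a, ha⟩ := elt_surjective ι r hR hinj hU t
    obtain ⟨z, hz⟩ := toAnn_surjective ι I hU.1 a
    exact ⟨z, (hΦ U hU z).trans ((congrArg (elt ι r hR hU) hz).trans ha)⟩
  · rw [hΦ U hU]
    have hiz : ((extCx ι I).iCycles r).app U (((extCx ι I).toCycles ((ComplexShape.up ℕ).prev r) r).app U w) =
        ((extCx ι I).d ((ComplexShape.up ℕ).prev r) r).app U w :=
      congr($(congrArg (fun φ => Scheme.Modules.Hom.app φ U)
        ((extCx ι I).toCycles_i ((ComplexShape.up ℕ).prev r) r)) w)
    cases r with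
    | zero =>
      have h0 : (extCx ι I).d ((ComplexShape.up ℕ).prev 0) 0 = 0 := (extCx ι I).shape _ _ (by simp)
      have : toAnn ι 0 I U (((extCx ι I).toCycles ((ComplexShape.up ℕ).prev 0) 0).app U w) = 0 := by
        apply Subtype.ext
        show ev1 ι _ U (((extCx ι I).iCycles 0).app U _) = 0
        rw [hiz, h0]
        exact map_zero _
      exact (congrArg (elt ι 0 hR hU) (this.trans (map_zero (toAnn ι 0 I U)).symm)).trans (f U hU).map_zero
    | succ q =>
      obtain ⟨w', hw'⟩ : ∃ w' : Γ((extCx ι I).X q, U), ((extCx ι I).d ((ComplexShape.up ℕ).prev (q + 1)) (q + 1)).app U w =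
          ((extCx ι I).d q (q + 1)).app U w' := by
        revert w
        rw [show (ComplexShape.up ℕ).prev (q + 1) = q from CochainComplex.prev_nat_succ q]
        exact fun w _ => ⟨w, rfl⟩
      refine elt_boundary ι hR hU _ (ev1 ι _ U w') (fun a ha => ev1_killed ι _ U w' a ha) ?_
      show dU (resI I) U q (ev1 ι _ U w') = ev1 ι _ U (((extCx ι I).iCycles (q + 1)).app U _)
      rw [hiz, hw']
      exact (ev1_d ι I q U w').symm
  · rw [hΦ U hU] at hz
    have hb := isBd_of_elt_eq_zero ι r hR hinj hU (toAnn ι r I U z) hz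
    have hi : ∀ (w : Γ((extCx ι I).X ((ComplexShape.up ℕ).prev r), U)),
        ((extCx ι I).d ((ComplexShape.up ℕ).prev r) r).app U w = ((extCx ι I).iCycles r).app U z →
          ((extCx ι I).toCycles ((ComplexShape.up ℕ).prev r) r).app U w = z := fun w e => by
      refine iCycles_app_injective (extCx ι I) r U (Eq.trans ?_ e)
      exact congr($(congrArg (fun φ => Scheme.Modules.Hom.app φ U)
        ((extCx ι I).toCycles_i ((ComplexShape.up ℕ).prev r) r)) w)
    cases r with
    | zero =>
      refine ⟨0, hi 0 ?_⟩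
      rw [map_zero]
      refine ev1_injective ι _ hU.1 ?_
      exact (map_zero (ev1 ι _ U)).trans hb.symm
    | succ q =>
      obtain ⟨w, hw, hdw⟩ := hb
      obtain ⟨h, hh⟩ := exists_ev1_eq ι ((resI I).A q) hU.1 w fun t ht => hw t ht
      have e : ((extCx ι I).d q (q + 1)).app U h = ((extCx ι I).iCycles (q + 1)).app U z :=
        ev1_injective ι _ hU.1 (((ev1_d ι I q U h).trans (congrArg (dU (resI I) U q) hh)).trans hdw)
      revert hi
      rw [show (ComplexShape.up ℕ).prev (q + 1) = q from CochainComplex.prev_nat_succ q]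
      exact fun hi => ⟨h, hi h e⟩

end Groth.Duality.FundLocal

namespace Groth.Duality.FundLocal

variable {P X : Scheme.{u}} (ι : X ⟶ P) [IsClosedImmersion ι] {r : ℕ}

/-- `Ext^r(ι_* O_X, F) ≅ ι_* Hom(∧^r C, ι^* F)`. -/
theorem nonempty_extSh_iso (hι : RegImm.IsRegularImmersionOfCodim RegImm.Kind.regular r ι)
    (F : P.Modules) [F.IsQuasicoherent]
    [DCoh.HasSheafHom (Groth.LocFree.extPow r (Omega.conormal ι))]
    [ModSite.HasSheafHom (O := P.sheaf) (pushO ι)] [HasInjectiveResolutions (ModSite.Mod P.sheaf)] :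
    Nonempty ((ModSite.extSh (O := P.sheaf) (pushO ι) r).obj F ≅
      (Scheme.Modules.pushforward ι).obj ((DCoh.sheafHom (Groth.LocFree.extPow r (Omega.conormal ι))).obj
        ((Scheme.Modules.pullback ι).obj F))) := by
  haveI : DCoh.HasSheafHom (pushO ι) := CohTwo.LocFreeExt.hasSheafHom _
  haveI : HasInjectiveResolutions P.Modules := ‹HasInjectiveResolutions (ModSite.Mod P.sheaf)›
  obtain ⟨e⟩ := nonempty_homology_iso_homL ι (injectiveResolution F) hι
  exact ⟨(injectiveResolution F).isoRightDerivedObj (homO ι) r ≪≫ e⟩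

end Groth.Duality.FundLocal
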