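import Mathlib.Algebra.Module.Submodule.Ker
import Mathlib.Algebra.Module.Torsion.Basic
import Mathlib.RingTheory.Ideal.Operations
import Mathlib.LinearAlgebra.Finsupp.LSum
import Mathlib.Tactic.Abel
import Mathlib.Tactic.Module

/-!
# Koszul cochains on lists and the descent relation

For a family `f : ι → A` a `p`-cochain with values in a module `V` is a function on lists of length
`p`; `del f` is the Koszul differential. No antisymmetry is imposed on cochains.
-/

set_option autoImplicit false

universe u v w

namespace Groth.Duality.FundLocal

variable {A : Type u} [CommRing A] {ι : Type v} {κ : Type w}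
variable {V W : Type u} [AddCommGroup V] [Module A V] [AddCommGroup W] [Module A W]

/-- The Koszul differential of cochains on lists. -/
def del (f : ι → A) : List ι → (List ι → V) → V
  | [], _ => 0
  | a :: t, y => f a • y t - del f t (fun s => y (a :: s))

@[simp] lemma del_nil (f : ι → A) (y : List ι → V) : del f [] y = 0 := rfl

lemma del_cons (f : ι → A) (a : ι) (t : List ι) (y : List ι → V) :
    del f (a :: t) y = f a • y t - del f t (fun s => y (a :: s)) := rfl

lemma del_zero (f : ι → A) : ∀ t : List ι, del (V := V) f t (fun _ => 0) = 0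
  | [] => rfl
  | a :: t => by rw [del_cons, del_zero f t, smul_zero, sub_zero]

lemma del_add (f : ι → A) : ∀ (t : List ι) (y z : List ι → V),
    del f t (fun s => y s + z s) = del f t y + del f t z
  | [], _, _ => (add_zero 0).symm
  | a :: t, y, z => by
    rw [del_cons, del_cons, del_cons, del_add f t, smul_add]
    abel

lemma del_smul (f : ι → A) (c : A) : ∀ (t : List ι) (y : List ι → V),
    del f t (fun s => c • y s) = c • del f t y
  | [], _ => (smul_zero c).symm
  | a :: t, y => by rw [del_cons, del_cons, del_smul f c t, smul_sub, smul_comm]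

lemma del_neg (f : ι → A) (t : List ι) (y : List ι → V) :
    del f t (fun s => -y s) = -del f t y := by
  have h := del_smul f (-1) t y
  simp only [neg_smul, one_smul] at h
  exact h

lemma del_sub (f : ι → A) (t : List ι) (y z : List ι → V) :
    del f t (fun s => y s - z s) = del f t y - del f t z := by
  rw [sub_eq_add_neg, ← del_neg, ← del_add]
  simp only [sub_eq_add_neg]

/-- Locality: only the lists one shorter matter. -/
lemma del_congr (f : ι → A) : ∀ (t : List ι) (y z : List ι → V),
    (∀ s : List ι, s.length + 1 = t.length → y s = z s) → del f t y = del f t z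
  | [], _, _, _ => rfl
  | a :: t, y, z, h => by
    rw [del_cons, del_cons, h t rfl,
      del_congr f t (fun s => y (a :: s)) (fun s => z (a :: s))
        (fun s hs => h (a :: s) (by simp [hs]))]

lemma del_map {A' : Type u} [CommRing A'] {σ : A →+* A'} {V' : Type u} [AddCommGroup V'] [Module A' V']
    (g : V →ₛₗ[σ] V') (f : ι → A) : ∀ (t : List ι) (y : List ι → V),
    g (del f t y) = del (fun a => σ (f a)) t (fun s => g (y s))
  | [], _ => map_zero g
  | a :: t, y => by rw [del_cons, del_cons, map_sub, g.map_smulₛₗ, del_map g f t]

lemma del_map' (g : V →ₗ[A] W) (f : ι → A) (t : List ι) (y : List ι → V) :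
    g (del f t y) = del f t (fun s => g (y s)) :=
  del_map g f t y

/-- `del` squares to zero. -/
lemma del_del (f : ι → A) : ∀ (t : List ι) (y : List ι → V), del f t (fun s => del f s y) = 0
  | [], _ => rfl
  | a :: t, y => by
    rw [del_cons]
    simp only [del_cons]
    rw [del_sub, del_smul, del_del f t (fun s => y (a :: s)), sub_zero, sub_self]

/-- Additivity in the family. -/
lemma del_family_add (f g : ι → A) : ∀ (t : List ι) (y : List ι → V),
    del (fun a => f a + g a) t y = del f t y + del g t y
  | [], _ => (add_zero 0).symm
  | a :: t, y => by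
    rw [del_cons, del_cons, del_cons, del_family_add f g t, add_smul]
    abel

lemma del_family_smul (f : ι → A) (c : A) : ∀ (t : List ι) (y : List ι → V),
    del (fun a => c * f a) t y = c • del f t y
  | [], _ => (smul_zero c).symm
  | a :: t, y => by rw [del_cons, del_cons, del_family_smul f c t, mul_smul, smul_sub]

/-- Two Koszul differentials anticommute. -/
lemma del_anticomm (f g : ι → A) (t : List ι) (y : List ι → V) :
    del f t (fun s => del g s y) = -del g t (fun s => del f s y) := by
  have h := del_del (fun a => f a + g a) t y
  simp only [del_family_add, del_add, del_del, zero_add, add_zero] at h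
  rw [eq_neg_iff_add_eq_zero]
  exact (add_comm _ _).trans h

/-- A list with two equal adjacent entries. -/
def Bad (s : List ι) : Prop := ∃ (pre : List ι) (a : ι) (post : List ι), s = pre ++ a :: a :: post

lemma bad_cons {a : ι} {s : List ι} (h : Bad s) : Bad (a :: s) := by
  obtain ⟨pre, b, post, rfl⟩ := h
  exact ⟨a :: pre, b, post, rfl⟩

/-- Cochains vanishing on bad lists have differentials vanishing on bad lists. -/
lemma del_bad (f : ι → A) (s : List ι) (hs : Bad s) (y : List ι → V) (hy : ∀ u, Bad u → y u = 0) :
    del f s y = 0 := by
  obtain ⟨pre, a, post, rfl⟩ := hs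
  induction pre generalizing y with
  | nil =>
    rw [List.nil_append, del_cons, del_cons]
    have h0 : (fun u => y (a :: a :: u)) = fun _ => (0 : V) :=
      funext fun u => hy _ ⟨[], a, u, rfl⟩
    rw [h0, del_zero, sub_zero, sub_self]
  | cons b pre ih =>
    rw [List.cons_append, del_cons, hy _ ⟨pre, a, post, rfl⟩, smul_zero,
      ih (fun u => y (b :: u)) (fun u hu => hy _ (bad_cons hu)), sub_zero]

/-- If the family vanishes on the entries, so does the differential. -/
lemma del_eq_zero (f : ι → A) : ∀ (t : List ι), (∀ a ∈ t, f a = 0) → ∀ y : List ι → V, del f t y = 0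
  | [], _, _ => rfl
  | a :: t, h, y => by
    rw [del_cons, h a (List.mem_cons_self ..), zero_smul,
      del_eq_zero f t (fun b hb => h b (List.mem_cons_of_mem _ hb)), sub_zero]

/-- Differentials of cochains in a submodule land in the ideal times it. -/
lemma del_mem (I : Ideal A) (S : Submodule A V) (f : ι → A) (hf : ∀ a, f a ∈ I) :
    ∀ (t : List ι) (y : List ι → V), (∀ s : List ι, s.length + 1 = t.length → y s ∈ S) →
      del f t y ∈ I • S
  | [], _, _ => Submodule.zero_mem _
  | a :: t, y, h => by
    rw [del_cons]
    exact sub_mem (Submodule.smul_mem_smul (hf a) (h t rfl))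
      (del_mem I S f hf t (fun s => y (a :: s)) (fun s hs => h (a :: s) (by simp [hs])))

/-- Pullback of cochains along a matrix. -/
noncomputable def pull (T : κ → (ι →₀ A)) : List κ → (List ι → V) → V
  | [], y => y []
  | a :: t, y => (T a).sum fun b c => c • pull T t (fun s => y (b :: s))

lemma pull_cons (T : κ → (ι →₀ A)) (a : κ) (t : List κ) (y : List ι → V) :
    pull T (a :: t) y = (T a).sum fun b c => c • pull T t (fun s => y (b :: s)) := rfl

lemma pull_map (g : V →ₗ[A] W) (T : κ → (ι →₀ A)) : ∀ (t : List κ) (y : List ι → V),
    g (pull T t y) = pull T t (fun s => g (y s))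
  | [], _ => rfl
  | a :: t, y => by
    rw [pull_cons, pull_cons, map_finsuppSum]
    refine Finsupp.sum_congr fun b _ => ?_
    rw [map_smul, pull_map g T t]

lemma pull_add (T : κ → (ι →₀ A)) : ∀ (t : List κ) (y z : List ι → V),
    pull T t (fun s => y s + z s) = pull T t y + pull T t z
  | [], _, _ => rfl
  | a :: t, y, z => by
    rw [pull_cons, pull_cons, pull_cons, ← Finsupp.sum_add]
    refine Finsupp.sum_congr fun b _ => ?_
    rw [pull_add T t, smul_add]

lemma pull_smul (T : κ → (ι →₀ A)) (r : A) : ∀ (t : List κ) (y : List ι → V),
    pull T t (fun s => r • y s) = r • pull T t y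
  | [], _ => rfl
  | a :: t, y => by
    rw [pull_cons, pull_cons, Finsupp.smul_sum]
    refine Finsupp.sum_congr fun b _ => ?_
    rw [pull_smul T r t, smul_comm]

lemma pull_sub (T : κ → (ι →₀ A)) (t : List κ) (y z : List ι → V) :
    pull T t (fun s => y s - z s) = pull T t y - pull T t z := by
  have h := pull_smul T (-1) t z
  simp only [neg_smul, one_smul] at h
  rw [sub_eq_add_neg, ← h, ← pull_add]
  simp only [sub_eq_add_neg]

lemma pull_congr (T : κ → (ι →₀ A)) : ∀ (t : List κ) (y z : List ι → V),
    (∀ s : List ι, s.length = t.length → y s = z s) → pull T t y = pull T t z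
  | [], _, _, h => h [] rfl
  | a :: t, y, z, h => by
    rw [pull_cons, pull_cons]
    refine Finsupp.sum_congr fun b _ => ?_
    rw [pull_congr T t (fun s => y (b :: s)) (fun s => z (b :: s))
      (fun s hs => h (b :: s) (by simp [hs]))]

lemma del_finsuppSum (f : ι → A) {β : Type*} (T : β →₀ A) (t : List ι) (Y : β → A → List ι → V) :
    del f t (fun s => T.sum fun b c => Y b c s) = T.sum fun b c => del f t (Y b c) := by
  classical
  simp only [Finsupp.sum]
  induction T.support using Finset.induction with
  | empty => simp [del_zero]
  | insert b s hb ih => simp [Finset.sum_insert hb, del_add, ih]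

/-- Pullback commutes with the differentials. -/
lemma pull_del (T : κ → (ι →₀ A)) (f : ι → A) (g : κ → A)
    (hg : ∀ a, g a = (T a).sum fun b c => c * f b) : ∀ (t : List κ) (y : List ι → V),
    pull T t (fun s => del f s y) = del g t (fun s => pull T s y)
  | [], _ => rfl
  | a :: t, y => by
    rw [pull_cons, del_cons]
    simp only [del_cons, pull_cons]
    rw [del_finsuppSum, hg a]
    simp only [Finsupp.sum, Finset.sum_smul, ← Finset.sum_sub_distrib]
    refine Finset.sum_congr rfl fun b _ => ?_
    rw [pull_sub, pull_smul, pull_del T f g hg t, del_smul, smul_sub, mul_smul]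

/-- Pullback along a map of indices. -/
lemma pull_single (π : κ → ι) : ∀ (t : List κ) (y : List ι → V),
    pull (fun a => Finsupp.single (π a) (1 : A)) t y = y (t.map π)
  | [], _ => rfl
  | a :: t, y => by
    rw [pull_cons]
    refine (Finsupp.sum_single_index (h := fun b (c : A) => c • pull (fun a => Finsupp.single (π a) (1 : A)) t fun s => y (b :: s)) (zero_smul A _)).trans ?_
    rw [one_smul, pull_single π t]
    rfl

end Groth.Duality.FundLocal
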