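import Groth.Agent.Duality.FundLocal.Theta
import Mathlib.LinearAlgebra.Alternating.Basic
import Mathlib.Data.List.OfFn

/-!
# The pairing is alternating and factors through `I/I²`
-/

set_option autoImplicit false

universe u v w

namespace Groth.Duality.FundLocal

variable {A : Type u} [CommRing A] {N : ℕ → Type u} [∀ q, AddCommGroup (N q)] [∀ q, Module A (N q)]
  {d : ∀ q, N q →ₗ[A] N (q + 1)} {I : Ideal A} (hd : IsExactCx d) {r : ℕ}

theorem theta_swap (z : annCoc d I r) (pre post : List I) (x y : I) :
    theta hd z (pre ++ x :: y :: post) = -theta hd z (pre ++ y :: x :: post) := by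
  have h := theta_bad hd z (pre ++ (x + y) :: (x + y) :: post) ⟨pre, x + y, post, rfl⟩
  have e : ∀ a : I, theta hd z (pre ++ a :: (x + y) :: post) =
      theta hd z (pre ++ a :: x :: post) + theta hd z (pre ++ a :: y :: post) := fun a => by
    simpa using theta_slot_add hd z (pre ++ [a]) post x y
  rw [theta_slot_add, e, e, theta_bad hd z (pre ++ x :: x :: post) ⟨pre, x, post, rfl⟩,
    theta_bad hd z (pre ++ y :: y :: post) ⟨pre, y, post, rfl⟩, ] at h
  simp only [zero_add, add_zero] at h
  exact eq_neg_of_add_eq_zero_left h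

theorem theta_dup (z : annCoc d I r) (x : I) : ∀ (mid pre post : List I),
    theta hd z (pre ++ x :: (mid ++ x :: post)) = 0
  | [], pre, post => theta_bad hd z _ ⟨pre, x, post, rfl⟩
  | y :: mid, pre, post => by
    rw [List.cons_append, theta_swap]
    have h := theta_dup z x mid (pre ++ [y]) post
    rw [List.append_assoc, List.singleton_append] at h
    rw [h, neg_zero]

lemma ofFn_update {α : Type*} {r : ℕ} [DecidableEq (Fin r)] (l : Fin r → α) (i : Fin r) (x : α) :
    List.ofFn (Function.update l i x) = (List.ofFn l).take i ++ x :: (List.ofFn l).drop (i + 1) := by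
  have h : List.ofFn (Function.update l i x) = (List.ofFn l).set i x := by
    refine List.ext_getElem (by simp) fun n h1 h2 => ?_
    simp only [List.getElem_ofFn, List.getElem_set, Function.update_apply, Fin.ext_iff]
    by_cases hn : n = (i : ℕ)
    · rw [if_pos hn, if_pos hn.symm]
    · rw [if_neg hn, if_neg (Ne.symm hn)]
  rw [h, List.set_eq_take_append_cons_drop, if_pos (by simp)]

/-- The pairing as an alternating map. -/
noncomputable def thetaAlt (z : annCoc d I r) : I [⋀^Fin r]→ₗ[A] MQ d I where
  toFun l := theta hd z (List.ofFn l)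
  map_update_add' l i a b := by
    rw [ofFn_update, ofFn_update, ofFn_update]
    exact theta_slot_add hd z _ _ a b
  map_update_smul' l i c a := by
    rw [ofFn_update, ofFn_update]
    exact theta_slot_smul hd z _ _ c a
  map_eq_zero_of_eq' l i j hv hij := by
    wlog hlt : i < j generalizing i j with H
    · exact H j i hv.symm hij.symm (lt_of_le_of_ne (not_lt.1 hlt) hij.symm)
    obtain ⟨m, hm⟩ : ∃ m, (j : ℕ) = i + 1 + m := ⟨j - i - 1, by omega⟩
    have h1 : List.ofFn l = (List.ofFn l).take i ++ l i :: (List.ofFn l).drop (i + 1) := by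
      conv_lhs => rw [← Function.update_eq_self i l, ofFn_update]
    have h2 : (List.ofFn l).drop (i + 1) =
        ((List.ofFn l).drop (i + 1)).take m ++ l j :: ((List.ofFn l).drop (i + 1)).drop (m + 1) := by
      conv_lhs => rw [← List.take_append_drop m ((List.ofFn l).drop (i + 1))]
      congr 1
      rw [List.drop_eq_getElem_cons (by simp; omega)]
      simp [List.getElem_drop, ← hm]
    show theta hd z (List.ofFn l) = 0
    rw [h1, h2, hv]
    exact theta_dup hd z (l j) _ _ _

lemma thetaAlt_apply (z : annCoc d I r) (l : Fin r → I) :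
    thetaAlt hd z l = theta hd z (List.ofFn l) := rfl

/-- Squares in one slot are killed. -/
theorem thetaAlt_update_sq (z : annCoc d I r) (l : Fin r → I) (i : Fin r) (x : I)
    (hx : (x : A) ∈ I ^ 2) : thetaAlt hd z (Function.update l i x) = 0 := by
  suffices H : ∀ (y : A) (_ : y ∈ I * I) (h : y ∈ I),
      thetaAlt hd z (Function.update l i ⟨y, h⟩) = 0 from H x (pow_two I ▸ hx) x.2
  intro y hy
  induction hy using Submodule.mul_induction_on' with
  | mem_mul_mem a ha b hb =>
    intro h
    rw [thetaAlt_apply, ofFn_update,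
      show (⟨a * b, h⟩ : I) = ((⟨a, ha⟩ : I) : A) • (⟨b, hb⟩ : I) from rfl]
    exact theta_slot_mul hd z _ _ _ _
  | add a ha b hb h1 h2 =>
    intro h
    have ha' : a ∈ I := Ideal.mul_le_right ha
    have hb' : b ∈ I := Ideal.mul_le_right hb
    rw [show (⟨a + b, h⟩ : I) = ⟨a, ha'⟩ + ⟨b, hb'⟩ from rfl, AlternatingMap.map_update_add,
      h1 ha', h2 hb', add_zero]

/-- Only the classes modulo squares matter. -/
theorem thetaAlt_congr (z : annCoc d I r) (l l' : Fin r → I)
    (h : ∀ i, ((l i : A) - l' i) ∈ I ^ 2) : thetaAlt hd z l = thetaAlt hd z l' := by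
  classical
  suffices H : ∀ s : Finset (Fin r), thetaAlt hd z (s.piecewise l' l) = thetaAlt hd z l by
    simpa using (H Finset.univ).symm
  intro s
  induction s using Finset.induction with
  | empty => simp
  | insert i s hi ih =>
    rw [Finset.piecewise_insert, ← ih]
    conv_rhs => rw [← Function.update_eq_self i (s.piecewise l' l), Finset.piecewise_eq_of_notMem _ _ _ hi,
      show l i = l' i + (l i - l' i) by abel, AlternatingMap.map_update_add,
      thetaAlt_update_sq hd z _ i (l i - l' i) (h i), add_zero]

end Groth.Duality.FundLocal
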