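import Groth.Agent.Duality.FundLocal.Cx
import Groth.Agent.Duality.FundLocal.ThetaAlt
import Groth.Agent.Duality.SheafHom
import Groth.Agent.KoszulLCI.ConormalFree
import Groth.Agent.KoszulLCI.Kinds
import Groth.Agent.KoszulReg.Weakly
import Groth.Agent.LocFree.ExtPow
import Groth.Agent.LocFree.FP
import Groth.Agent.KTheory.ExtFiltSheaf
import Groth.Agent.Ega2Proj.DirImg

/-!
# Sections of `Hom(∧^r C, ι^* F)` from annihilated cocycles
-/

set_option autoImplicit false
set_option linter.style.haveILetI false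

universe u

open CategoryTheory CategoryTheory.Limits AlgebraicGeometry TopologicalSpace

noncomputable section

namespace Groth.Duality.FundLocal

open Groth.CohBase (Res)
open Groth.LocFree (extPow wedge ewedge ESec extUnit)
open Groth.PicAux (res Basis' tmulSec)

variable {P X : Scheme.{u}} (ι : X ⟶ P) [IsClosedImmersion ι] (r : ℕ)

/-- An affine open on which the ideal is generated by a regular sequence of length `r`, or which misses `X`. -/
def Good (U : P.Opens) : Prop :=
  IsAffineOpen U ∧ ((∃ rs : List Γ(P, U), rs.length = r ∧ RingTheory.Sequence.IsWeaklyRegular Γ(P, U) rs ∧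
    IU ι U = Ideal.ofList rs) ∨ ι ⁻¹ᵁ U = ⊥)

variable {R : Res P.Modules} {U : P.Opens}

lemma subsingleton_sections {Y : Scheme.{u}} (M : Y.Modules) {V : Y.Opens} (hV : V = ⊥) :
    Subsingleton Γ(M, V) := by
  refine ⟨fun a b => PicAux.res_ext (M := M) (fun e : PEmpty.{u + 1} => (e.elim : Y.Opens)) (fun e => e.elim)
    (hV.trans_le bot_le) fun e => e.elim⟩

/-- The exterior power of the conormal sheaf is free with a wedge as basis, or lives on the empty set. -/
theorem exists_gen (hG : Good ι r U) :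
    (∃ g : Fin r → IU ι U,
        IU ι U = Ideal.ofList (List.map Subtype.val (List.ofFn g)) ∧ RegList (List.map Subtype.val (List.ofFn g)) ∧
        ∃ B : Module.Basis (Fin r) Γ(X, ι ⁻¹ᵁ U) Γ(Omega.conormal ι, ι ⁻¹ᵁ U), ⇑B = cI ι hG.1 ∘ g) ∨
      ι ⁻¹ᵁ U = ⊥ := by
  obtain ⟨hU, ⟨rs, hlen, hreg, hI⟩ | h⟩ := hG
  swap
  · exact Or.inr h
  refine Or.inl ?_
  subst hlen
  have hh1 : CAlgX.IsH1Regular rs.get :=
    KoszulLCI.isH1Regular_of_isKoszulRegularSeq (KoszulReg.isKoszulRegularSeq_of_isWeaklyRegular hreg)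
  have hker : RingHom.ker (ι.app U).hom = Ideal.span (Set.range rs.get) := by
    rw [show RingHom.ker (ι.app U).hom = Ideal.ofList rs from hI, Set.range_list_get]
  have hchart := isConormalChart ι (U := U) hU
  obtain ⟨B, hB⟩ := KoszulLCI.exists_basis_conormal ι hchart rs.get hh1 hker
  let f : Fin rs.length → IU ι U := fun m => ⟨rs.get m, by rw [hI]; exact Ideal.subset_span (List.get_mem rs m)⟩
  have hBf : ∀ m, B m = cI ι hU (f m) := fun m => by
    obtain ⟨k, hk⟩ := exists_sect ι hU (f m)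
    rw [hB m k hk, cI_eq ι hU (f m) k hk]
  have hval : List.map Subtype.val (List.ofFn (f ∘ Fin.rev)) = rs.reverse := by
    refine List.ext_getElem (by simp) fun n h1 h2 => ?_
    simp only [List.getElem_map, List.getElem_ofFn, List.getElem_reverse, Function.comp_apply, f,
      List.get_eq_getElem, Fin.val_rev]
    congr 1
    omega
  refine ⟨f ∘ Fin.rev, ?_, ?_, B.reindex Fin.revPerm, funext fun m => ?_⟩
  · rw [hval, hI]
    simp [Ideal.ofList]
  · rw [hval]
    exact regList_reverse hreg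
  · rw [Module.Basis.reindex_apply, hBf]
    rfl

lemma esec_ext {g : Fin r → IU ι U} (hU : IsAffineOpen U)
    {B : Module.Basis (Fin r) Γ(X, ι ⁻¹ᵁ U) Γ(Omega.conormal ι, ι ⁻¹ᵁ U)} (hB : ⇑B = cI ι hU ∘ g)
    {M : Type*} [AddCommGroup M] [Module Γ(X, ι ⁻¹ᵁ U) M]
    {a b : ESec r (Omega.conormal ι) (ι ⁻¹ᵁ U) →ₗ[Γ(X, ι ⁻¹ᵁ U)] M}
    (h : a (ewedge r (Omega.conormal ι) (cI ι hU ∘ g)) = b (ewedge r (Omega.conormal ι) (cI ι hU ∘ g))) :
    a = b := by
  apply exteriorPower.alternatingMapLinearEquiv.symm.injective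
  refine Module.Basis.ext_alternating B fun v hv => ?_
  obtain ⟨σ, rfl⟩ : ∃ σ : Equiv.Perm (Fin r), v = σ :=
    ⟨Equiv.ofBijective v (Finite.injective_iff_bijective.1 hv), rfl⟩
  rw [show (fun i => B (σ i)) = (⇑B ∘ σ) from rfl, AlternatingMap.map_perm, AlternatingMap.map_perm, hB]
  exact congrArg _ h

variable [R.Y.IsQuasicoherent] (hR : R.Flasque) (hU : IsAffineOpen U)

/-- A lift of conormal sections. -/
def lift (c : Fin r → Γ(Omega.conormal ι, ι ⁻¹ᵁ U)) : Fin r → IU ι U :=
  Function.surjInv (cI_surjective ι hU) ∘ c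

omit [R.Y.IsQuasicoherent] in
lemma cI_lift (c : Fin r → Γ(Omega.conormal ι, ι ⁻¹ᵁ U)) (j : Fin r) : cI ι hU (lift ι r hU c j) = c j :=
  Function.surjInv_eq _ _

lemma val_theta_congr (z : annCoc (dU R U) (IU ι U) r) (l : Fin r → IU ι U)
    (c : Fin r → Γ(Omega.conormal ι, ι ⁻¹ᵁ U)) (h : ∀ j, cI ι hU (l j) = c j) :
    val ι hU (thetaAlt (isExactCx hR hU) z (lift ι r hU c)) = val ι hU (thetaAlt (isExactCx hR hU) z l) := by
  refine congrArg _ (thetaAlt_congr _ z _ _ fun j => ?_)
  have h0 : cI ι hU (lift ι r hU c j - l j) = 0 := by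
    have e := cI_add ι hU (lift ι r hU c j - l j) (l j)
    rw [sub_add_cancel, cI_lift, h] at e
    exact add_eq_right.mp e.symm
  exact (cI_eq_zero_iff ι hU _).1 h0

/-- The alternating map on the conormal sections of an annihilated cocycle. -/
def altC (z : annCoc (dU R U) (IU ι U) r) :
    Γ(Omega.conormal ι, ι ⁻¹ᵁ U) [⋀^Fin r]→ₗ[Γ(X, ι ⁻¹ᵁ U)] Γ((Scheme.Modules.pullback ι).obj R.Y, ι ⁻¹ᵁ U) where
  toFun c := val ι hU (thetaAlt (isExactCx hR hU) z (lift ι r hU c))
  map_update_add' c i a b := by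
    rw [← map_add, val_theta_congr ι r hR hU z (Function.update (lift ι r hU c) i
        (Function.surjInv (cI_surjective ι hU) a + Function.surjInv (cI_surjective ι hU) b)) _ fun j => ?_,
      AlternatingMap.map_update_add]
    · have e : ∀ x, lift ι r hU (Function.update c i x) =
          Function.update (lift ι r hU c) i (Function.surjInv (cI_surjective ι hU) x) :=
        fun x => Function.comp_update _ _ _ _
      rw [e, e]
    · by_cases hj : j = i
      · subst hj
        rw [Function.update_self, Function.update_self, cI_add, Function.surjInv_eq (cI_surjective ι hU),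
          Function.surjInv_eq (cI_surjective ι hU)]
      · rw [Function.update_of_ne hj, Function.update_of_ne hj, cI_lift]
  map_update_smul' c i s a := by
    obtain ⟨t, rfl⟩ := ι.app_surjective U hU s
    rw [val_theta_congr ι r hR hU z (Function.update (lift ι r hU c) i
        (t • Function.surjInv (cI_surjective ι hU) a)) _ fun j => ?_,
      AlternatingMap.map_update_smul, LinearMap.map_smulₛₗ]
    · have e : ∀ x, lift ι r hU (Function.update c i x) =
          Function.update (lift ι r hU c) i (Function.surjInv (cI_surjective ι hU) x) :=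
        fun x => Function.comp_update _ _ _ _
      rw [e]
    · by_cases hj : j = i
      · subst hj
        rw [Function.update_self, Function.update_self, cI_smul, Function.surjInv_eq (cI_surjective ι hU)]
      · rw [Function.update_of_ne hj, Function.update_of_ne hj, cI_lift]
  map_eq_zero_of_eq' c i j h hij := by
    rw [AlternatingMap.map_eq_zero_of_eq _ (lift ι r hU c) (i := i) (j := j) (by simp [lift, h]) hij, map_zero]

lemma altC_comp (z : annCoc (dU R U) (IU ι U) r) (l : Fin r → IU ι U) :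
    altC ι r hR hU z (cI ι hU ∘ l) = val ι hU (thetaAlt (isExactCx hR hU) z l) :=
  val_theta_congr ι r hR hU z l _ fun _ => rfl

/-- The linear map on the exterior power. -/
def lamSec (z : annCoc (dU R U) (IU ι U) r) :
    Γ(extPow r (Omega.conormal ι), ι ⁻¹ᵁ U) →ₗ[Γ(X, ι ⁻¹ᵁ U)]
      Γ((Scheme.Modules.pullback ι).obj R.Y, ι ⁻¹ᵁ U) :=
  exteriorPower.alternatingMapLinearEquiv (altC ι r hR hU z) ∘ₗ
    (KTheory.ExtFilt.extEquiv r (Omega.conormal ι) (hU.preimage ι)).symm.toLinearMap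

lemma lamSec_wedge (z : annCoc (dU R U) (IU ι U) r) (l : Fin r → IU ι U) :
    lamSec ι r hR hU z (wedge r (Omega.conormal ι) (cI ι hU ∘ l)) =
      val ι hU (thetaAlt (isExactCx hR hU) z l) := by
  rw [lamSec, LinearMap.comp_apply, show wedge r (Omega.conormal ι) (cI ι hU ∘ l) =
    KTheory.ExtFilt.extEquiv r (Omega.conormal ι) (hU.preimage ι) (ewedge r (Omega.conormal ι) (cI ι hU ∘ l)) from rfl,
    LinearEquiv.coe_coe, LinearEquiv.symm_apply_apply, exteriorPower.alternatingMapLinearEquiv_apply_ιMulti]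
  exact altC_comp ι r hR hU z l

include hU in
lemma ext_wedge {M : Type*} [AddCommGroup M] [Module Γ(X, ι ⁻¹ᵁ U) M]
    {a b : Γ(extPow r (Omega.conormal ι), ι ⁻¹ᵁ U) →ₗ[Γ(X, ι ⁻¹ᵁ U)] M}
    (h : ∀ l : Fin r → IU ι U, a (wedge r (Omega.conormal ι) (cI ι hU ∘ l)) =
      b (wedge r (Omega.conormal ι) (cI ι hU ∘ l))) : a = b := by
  refine LinearMap.ext fun x => ?_
  obtain ⟨y, rfl⟩ := (KTheory.ExtFilt.extEquiv r (Omega.conormal ι) (hU.preimage ι)).surjective x
  induction y using LocFree.esec_induction with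
  | wedge e =>
    have : e = cI ι hU ∘ lift ι r hU e := funext fun j => (cI_lift ι r hU e j).symm
    rw [this]
    exact h _
  | zero => rw [map_zero, map_zero, map_zero]
  | add y y' hy hy' => rw [map_add, map_add, map_add, hy, hy']
  | smul t y hy => rw [map_smul, map_smul, map_smul, hy]

variable [DCoh.HasSheafHom (extPow r (Omega.conormal ι))]

/-- `Hom(∧^r C, ι^* F)`. -/
abbrev homL (R : Res P.Modules) : X.Modules :=
  (DCoh.sheafHom (extPow r (Omega.conormal ι))).obj ((Scheme.Modules.pullback ι).obj R.Y)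

variable {ι r}

/-- Evaluation of a section of an internal Hom, linearly. -/
def evLin {Y : Scheme.{u}} (L G : Y.Modules) [DCoh.HasSheafHom L] {W : Y.Opens}
    (h : Γ((DCoh.sheafHom L).obj G, W)) : Γ(L, W) →ₗ[Γ(Y, W)] Γ(G, W) where
  toFun m := SheafHom.evSec L h m
  map_add' a b := by rw [SheafHom.evSec, PicAux.tmulSec_add_left, map_add]; rfl
  map_smul' s a := by rw [SheafHom.evSec, PicAux.tmulSec_smul_left, Scheme.Modules.Hom.app_smul]; rfl

lemma evLin_smul {Y : Scheme.{u}} {L G : Y.Modules} [DCoh.HasSheafHom L] {W : Y.Opens} (s : Γ(Y, W))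
    (h : Γ((DCoh.sheafHom L).obj G, W)) : evLin L G (s • h) = s • evLin L G h := by
  refine LinearMap.ext fun m => ?_
  show SheafHom.evSec L (s • h) m = s • SheafHom.evSec L h m
  rw [SheafHom.evSec, PicAux.tmulSec_smul_right, Scheme.Modules.Hom.app_smul]
  rfl

lemma evLin_add {Y : Scheme.{u}} {L G : Y.Modules} [DCoh.HasSheafHom L] {W : Y.Opens}
    (h h' : Γ((DCoh.sheafHom L).obj G, W)) : evLin L G (h + h') = evLin L G h + evLin L G h' := by
  refine LinearMap.ext fun m => ?_
  show SheafHom.evSec L (h + h') m = SheafHom.evSec L h m + SheafHom.evSec L h' m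
  rw [SheafHom.evSec, PicAux.tmulSec_add_right, map_add]
  rfl

lemma evLin_res {Y : Scheme.{u}} {L G : Y.Modules} [DCoh.HasSheafHom L] {W W' : Y.Opens} (hW : W' ≤ W)
    (h : Γ((DCoh.sheafHom L).obj G, W)) (m : Γ(L, W)) :
    evLin L G (res _ hW h) (res L hW m) = res G hW (evLin L G h m) := by
  show SheafHom.evSec L _ _ = res G hW (SheafHom.evSec L h m)
  rw [SheafHom.evSec, SheafHom.evSec, ← PicAux.res_tmulSec, PicAux.app_res]

/-- Where `L` has a finite basis, sections of the internal Hom are linear maps of sections. -/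
theorem evLin_bijective {Y : Scheme.{u}} {L G : Y.Modules} [DCoh.HasSheafHom L] {W : Y.Opens} {n : ℕ}
    {s : Fin n → Γ(L, W)} (hs : Basis' L W s) :
    Function.Bijective (evLin L G (W := W)) := by
  obtain ⟨hsp, hrel⟩ := SheafHom.spans_rels_of_basis hs
  refine ⟨fun h h' e => ?_, fun lam => ?_⟩
  · refine (ConcreteCategory.bijective_of_isIso ((CohTwo.SheafHomIso.iso L G).hom.app W)).1 ?_
    refine Subtype.ext (funext fun ⟨y, hy⟩ => VectorBundles.RefHullStalk.stalkHom_ext hsp hy fun i => ?_)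
    rw [SheafHom.iso_hom_val, SheafHom.iso_hom_val]
    exact congrArg (QCohMod.germ G y hy) (LinearMap.congr_fun e (s i.down))
  · obtain ⟨θ, hθ⟩ := VectorBundles.RefHullStalk.exists_section G hsp hrel le_rfl
      (fun i : ULift.{u} (Fin n) => lam (s i.down)) (fun j => j.elim)
    refine ⟨(CohTwo.SheafHomIso.iso L G).inv.app W θ, ?_⟩
    have e2 : (CohTwo.SheafHomIso.iso L G).hom.app W ((CohTwo.SheafHomIso.iso L G).inv.app W θ) = θ :=
      congrArg (fun φ => Scheme.Modules.Hom.app φ W θ) (CohTwo.SheafHomIso.iso L G).inv_hom_id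
    refine (LocFree.basisOfBasis' hs (le_refl W)).ext fun i => ?_
    have hb : LocFree.basisOfBasis' hs (le_refl W) i = s i := by
      rw [LocFree.basisOfBasis', Module.Basis.coe_ofEquivFun, LinearEquiv.symm_symm]
      show Fintype.linearCombination Γ(Y, W) (fun i => res L le_rfl (s i)) (Pi.single i (1 : Γ(Y, W))) = s i
      rw [Fintype.linearCombination_apply_single, one_smul, PicAux.res_self]
    rw [hb]
    refine VectorBundles.RefHullStalk.res_ext_germ G fun y hy => ?_
    show QCohMod.germ G y hy (SheafHom.evSec L _ (s i)) = _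
    rw [← SheafHom.iso_hom_val, e2]
    exact hθ y hy ⟨i⟩

omit [R.Y.IsQuasicoherent] in
lemma exists_basis'_extConormal (hG : Good ι r U) :
    ∃ (n : ℕ) (s : Fin n → Γ(extPow r (Omega.conormal ι), ι ⁻¹ᵁ U)),
      Basis' (extPow r (Omega.conormal ι)) (ι ⁻¹ᵁ U) s := by
  obtain ⟨g, -, -, B, -⟩ | h := exists_gen ι r hG
  · have hV : IsAffineOpen (ι ⁻¹ᵁ U) := hG.1.preimage ι
    have hB : Basis' (Omega.conormal ι) (ι ⁻¹ᵁ U) B := by
      refine KTheory.LocFree.basis'_of_affine hV _ ?_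
      rw [show (fun q : Fin r → Γ(X, ι ⁻¹ᵁ U) => ∑ i, q i • B i) = B.equivFun.symm from
        funext fun q => (B.equivFun_symm_apply q).symm]
      exact B.equivFun.symm.bijective
    obtain ⟨t, ht⟩ := LocFree.exists_basis'_extPow hV hB r
    exact ⟨_, t, ht⟩
  · refine ⟨0, fun i => i.elim0, fun V hV => ⟨fun a b _ => Subsingleton.elim a b, fun y => ⟨0, ?_⟩⟩⟩
    have := subsingleton_sections (extPow r (Omega.conormal ι)) (V := V) (le_bot_iff.1 (hV.trans h.le))
    exact Subsingleton.elim _ _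

variable (ι r)

/-- The section attached to an annihilated cocycle. -/
def elt (hG : Good ι r U) (z : annCoc (dU R U) (IU ι U) r) : Γ(homL ι r R, ι ⁻¹ᵁ U) :=
  ((evLin_bijective (exists_basis'_extConormal hG).choose_spec.choose_spec).2 (lamSec ι r hR hG.1 z)).choose

lemma evLin_elt (hG : Good ι r U) (z : annCoc (dU R U) (IU ι U) r) :
    evLin _ _ (elt ι r hR hG z) = lamSec ι r hR hG.1 z :=
  ((evLin_bijective (exists_basis'_extConormal hG).choose_spec.choose_spec).2 (lamSec ι r hR hG.1 z)).choose_spec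

omit [R.Y.IsQuasicoherent] in
lemma evLin_injective (hG : Good ι r U) :
    Function.Injective (evLin (extPow r (Omega.conormal ι)) ((Scheme.Modules.pullback ι).obj R.Y)
      (W := ι ⁻¹ᵁ U)) :=
  (evLin_bijective (exists_basis'_extConormal hG).choose_spec.choose_spec).1

theorem elt_add (hG : Good ι r U) (z z' : annCoc (dU R U) (IU ι U) r) :
    elt ι r hR hG (z + z') = elt ι r hR hG z + elt ι r hR hG z' := by
  refine evLin_injective ι r hG ?_
  rw [evLin_add, evLin_elt, evLin_elt, evLin_elt]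
  refine ext_wedge ι r hG.1 fun l => ?_
  rw [LinearMap.add_apply, lamSec_wedge, lamSec_wedge, lamSec_wedge, thetaAlt_apply, thetaAlt_apply,
    thetaAlt_apply, theta_add, map_add]

theorem elt_smul (hG : Good ι r U) (a : Γ(P, U)) (z : annCoc (dU R U) (IU ι U) r) :
    elt ι r hR hG (a • z) = ι.app U a • elt ι r hR hG z := by
  refine evLin_injective ι r hG ?_
  rw [evLin_smul, evLin_elt, evLin_elt]
  refine ext_wedge ι r hG.1 fun l => ?_
  rw [LinearMap.smul_apply, lamSec_wedge, lamSec_wedge, thetaAlt_apply, thetaAlt_apply, theta_smul,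
    LinearMap.map_smulₛₗ]

theorem elt_surjective (hinj : ∀ q, Injective (R.A q)) (hG : Good ι r U) (h : Γ(homL ι r R, ι ⁻¹ᵁ U)) :
    ∃ z : annCoc (dU R U) (IU ι U) r, elt ι r hR hG z = h := by
  obtain ⟨g, hI, hreg, B, hB⟩ | h0 := exists_gen ι r hG
  swap
  · have := subsingleton_sections (homL ι r R) h0
    exact ⟨0, Subsingleton.elim _ _⟩
  obtain ⟨-, hs, -⟩ := theta_main (isExactCx hR hG.1) (isDivisible hinj hG.1) _ hreg (IU ι U) hI
    (List.ofFn g) rfl
  obtain ⟨m, hm⟩ := (val_bijective ι hG.1 (R := R)).2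
    (evLin _ _ h (wedge r (Omega.conormal ι) (cI ι hG.1 ∘ g)))
  have hlen : (List.map Subtype.val (List.ofFn g)).length = r := by simp
  rw [hlen] at hs
  obtain ⟨z, hz⟩ := hs m
  refine ⟨z, evLin_injective ι r hG ?_⟩
  rw [evLin_elt]
  refine LinearMap.ext fun x => ?_
  obtain ⟨y, rfl⟩ := (KTheory.ExtFilt.extEquiv r (Omega.conormal ι) (hG.1.preimage ι)).surjective x
  refine LinearMap.congr_fun (esec_ext ι r hG.1 hB
    (a := (lamSec ι r hR hG.1 z).comp (KTheory.ExtFilt.extEquiv r (Omega.conormal ι) (hG.1.preimage ι)).toLinearMap)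
    (b := (evLin _ _ h).comp (KTheory.ExtFilt.extEquiv r (Omega.conormal ι) (hG.1.preimage ι)).toLinearMap) ?_) y
  show lamSec ι r hR hG.1 z (wedge r (Omega.conormal ι) (cI ι hG.1 ∘ g)) =
    evLin _ _ h (wedge r (Omega.conormal ι) (cI ι hG.1 ∘ g))
  rw [lamSec_wedge, thetaAlt_apply, hz, hm]

theorem isBd_of_elt_eq_zero (hinj : ∀ q, Injective (R.A q)) (hG : Good ι r U)
    (z : annCoc (dU R U) (IU ι U) r) (hz : elt ι r hR hG z = 0) :
    IsBd (dU R U) (IU ι U) r z.1 := by
  obtain ⟨g, hI, hreg, B, hB⟩ | h0 := exists_gen ι r hG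
  swap
  · have h1 : (1 : Γ(P, U)) ∈ IU ι U := by
      have := subsingleton_sections (Coh.structureModule X) (V := ι ⁻¹ᵁ U) h0
      exact Subsingleton.elim (show Γ(Coh.structureModule X, ι ⁻¹ᵁ U) from ι.app U 1)
        (0 : Γ(Coh.structureModule X, ι ⁻¹ᵁ U))
    have hz0 : z.1 = 0 := by rw [← one_smul Γ(P, U) z.1]; exact z.2.2 _ h1
    rw [hz0]
    cases r with
    | zero => exact rfl
    | succ r => exact ⟨0, fun a _ => smul_zero a, map_zero _⟩
  obtain ⟨-, -, hi⟩ := theta_main (isExactCx hR hG.1) (isDivisible hinj hG.1) _ hreg (IU ι U) hI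
    (List.ofFn g) rfl
  have hlen : (List.map Subtype.val (List.ofFn g)).length = r := by simp
  rw [hlen] at hi
  refine hi z ((val_bijective ι hG.1 (R := R)).1 ?_)
  have e := LinearMap.congr_fun (congrArg (evLin (extPow r (Omega.conormal ι))
    ((Scheme.Modules.pullback ι).obj R.Y)) hz) (wedge r (Omega.conormal ι) (cI ι hG.1 ∘ g))
  rw [evLin_elt, lamSec_wedge, thetaAlt_apply] at e
  rw [map_zero, e]
  show SheafHom.evSec _ (0 : Γ(homL ι r R, ι ⁻¹ᵁ U)) _ = 0
  rw [SheafHom.evSec, show tmulSec (wedge r (Omega.conormal ι) (cI ι hG.1 ∘ g))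
    (0 : Γ(homL ι r R, ι ⁻¹ᵁ U)) = 0 by
      have e := PicAux.tmulSec_smul_right (0 : Γ(X, ι ⁻¹ᵁ U)) (wedge r (Omega.conormal ι) (cI ι hG.1 ∘ g))
        (0 : Γ(homL ι r R, ι ⁻¹ᵁ U))
      rwa [zero_smul, zero_smul] at e, map_zero]

theorem elt_boundary {q : ℕ} [DCoh.HasSheafHom (extPow (q + 1) (Omega.conormal ι))] (hG : Good ι (q + 1) U)
    (z : annCoc (dU R U) (IU ι U) (q + 1)) (w : NU R U q) (hw : ∀ a ∈ IU ι U, a • w = 0)
    (hz : dU R U q w = z.1) : elt ι (q + 1) hR hG z = 0 := by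
  refine evLin_injective ι (q + 1) hG ?_
  rw [evLin_elt]
  refine ext_wedge ι (q + 1) hG.1 fun l => ?_
  rw [lamSec_wedge, thetaAlt_apply, theta_boundary (isExactCx hR hG.1) z w hw hz, map_zero]
  show (0 : _) = SheafHom.evSec _ (0 : Γ(homL ι (q + 1) R, ι ⁻¹ᵁ U)) _
  rw [SheafHom.evSec, show tmulSec (wedge (q + 1) (Omega.conormal ι) (cI ι hG.1 ∘ l))
    (0 : Γ(homL ι (q + 1) R, ι ⁻¹ᵁ U)) = 0 by
      have e := PicAux.tmulSec_smul_right (0 : Γ(X, ι ⁻¹ᵁ U)) (wedge (q + 1) (Omega.conormal ι) (cI ι hG.1 ∘ l))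
        (0 : Γ(homL ι (q + 1) R, ι ⁻¹ᵁ U))
      rwa [zero_smul, zero_smul] at e, map_zero]

end Groth.Duality.FundLocal
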