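import Groth.Agent.Duality.FundLocal.Descent
import Mathlib.Algebra.Module.Submodule.Pointwise

/-!
# The pairing of annihilated cocycles with tuples of the ideal
-/

set_option autoImplicit false

universe u v w

namespace Groth.Duality.FundLocal

variable {A : Type u} [CommRing A] {N : ℕ → Type u} [∀ q, AddCommGroup (N q)] [∀ q, Module A (N q)]
  (d : ∀ q, N q →ₗ[A] N (q + 1)) (I : Ideal A)

/-- Cocycles killed by the ideal. -/
def annCoc (r : ℕ) : Submodule A (N r) where
  carrier := {z | d r z = 0 ∧ ∀ a ∈ I, a • z = 0}
  zero_mem' := ⟨map_zero _, fun a _ => smul_zero a⟩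
  add_mem' h h' := ⟨by rw [map_add, h.1, h'.1, add_zero],
    fun a ha => by rw [smul_add, h.2 a ha, h'.2 a ha, add_zero]⟩
  smul_mem' c z h := ⟨by rw [map_smul, h.1, smul_zero],
    fun a ha => by rw [smul_comm, h.2 a ha, smul_zero]⟩

lemma mem_annCoc {r : ℕ} {z : N r} : z ∈ annCoc d I r ↔ d r z = 0 ∧ ∀ a ∈ I, a • z = 0 :=
  Iff.rfl

/-- `I·M` inside the cocycles `M` of degree zero. -/
def IM : Submodule A (LinearMap.ker (d 0)) :=
  (I • LinearMap.ker (d 0)).comap (LinearMap.ker (d 0)).subtype

/-- `M/IM`. -/
abbrev MQ : Type u := (LinearMap.ker (d 0)) ⧸ IM d I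

/-- Reduction of a cocycle of degree zero. -/
def cl (v : N 0) (hv : d 0 v = 0) : MQ d I := Submodule.Quotient.mk ⟨v, hv⟩

lemma cl_congr {v v' : N 0} (hv : d 0 v = 0) (hv' : d 0 v' = 0) (h : v = v') :
    cl d I v hv = cl d I v' hv' := by subst h; rfl

lemma cl_eq_of_sub_mem {v v' : N 0} (hv : d 0 v = 0) (hv' : d 0 v' = 0)
    (h : v - v' ∈ I • LinearMap.ker (d 0)) : cl d I v hv = cl d I v' hv' :=
  (Submodule.Quotient.eq _).2 h

lemma cl_eq_zero_iff {v : N 0} (hv : d 0 v = 0) :
    cl d I v hv = 0 ↔ v ∈ I • LinearMap.ker (d 0) :=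
  Submodule.Quotient.mk_eq_zero _

variable {d I}

/-- The start of a descent. -/
def start {r : ℕ} (z : N r) {ι : Type v} : List ι → N r
  | [] => z
  | _ :: _ => 0

lemma exists_start (hd : IsExactCx d) {r : ℕ} (z : annCoc d I r) {ι : Type v} (g : ι → A)
    (hg : ∀ a, g a ∈ I) :
    ∃ v : List ι → N 0, Desc d g r (start z.1) 0 v ∧
      (∀ s : List ι, s.length = r → d 0 (v s) = 0) ∧ ∀ s : List ι, s.length = r → Bad s → v s = 0 := by
  obtain ⟨v, h1, h2, h3⟩ := exists_desc hd g r (start z.1) 0
    (fun s hs => by obtain rfl := List.length_eq_zero_iff.1 hs; exact z.2.1)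
    (fun s hs => by
      obtain ⟨a, rfl⟩ := List.length_eq_one_iff.1 hs
      show g a • z.1 - (0 : N r) = 0
      rw [z.2.2 _ (hg a), sub_zero])
    (fun s hs => by
      obtain ⟨pre, a, post, rfl⟩ := hs
      cases pre <;> rfl)
  exact ⟨v, h1, fun s hs => h2 s (by omega), fun s hs => h3 s (by omega)⟩

variable (hd : IsExactCx d)

include hd in
lemma desc_unique {r : ℕ} {ι : Type v} (g : ι → A) (hg : ∀ a, g a ∈ I) {e e' : List ι → N r}
    (he : e [] = e' []) {v v' : List ι → N 0} (h : Desc d g r e 0 v) (h' : Desc d g r e' 0 v')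
    (s : List ι) (hs : s.length = r) : v s - v' s ∈ I • LinearMap.ker (d 0) := by
  have h1 := h.add g (h'.smul g (-1))
  simp only [neg_smul, one_smul, ← sub_eq_add_neg] at h1
  cases r with
  | zero =>
    have h2 : v s - v' s = e s - e' s := h1 s hs
    rw [h2, List.length_eq_zero_iff.1 hs]
    rw [he, sub_self]
    exact zero_mem _
  | succ r =>
    exact h1.mem_of_boundary hd I g hg r _ 0 _ (fun _ => 0)
      (fun t ht => by rw [List.length_eq_zero_iff.1 ht, he, sub_self, map_zero])
      (fun t _ => del_zero g t) s (by omega)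

variable {r : ℕ}

/-- The value at a list of elements of the ideal. -/
noncomputable def theta (z : annCoc d I r) (l : List I) : MQ d I :=
  if h : l.length = r then
    cl d I ((exists_start hd z (fun a : I => (a : A)) (fun a => a.2)).choose l)
      ((exists_start hd z (fun a : I => (a : A)) (fun a => a.2)).choose_spec.2.1 l h)
  else 0

/-- `theta` is computed by any descent on any family. -/
theorem theta_eq (z : annCoc d I r) {κ : Type v} (g : κ → A) (hg : ∀ a, g a ∈ I)
    {e : List κ → N r} (he : e [] = z.1) {v : List κ → N 0} (hv : Desc d g r e 0 v)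
    (t : List κ) (ht : t.length = r) (hv0 : d 0 (v t) = 0) :
    theta hd z (t.map fun a => (⟨g a, hg a⟩ : I)) = cl d I (v t) hv0 := by
  rw [theta, dif_pos (by simpa using ht)]
  apply cl_eq_of_sub_mem
  have h0 := (exists_start hd z (fun a : I => (a : A)) (fun a => a.2)).choose_spec.1.pull
    (fun a : κ => Finsupp.single (⟨g a, hg a⟩ : I) (1 : A)) (fun a : I => (a : A)) g
    (fun a => by simp)
  have := desc_unique hd g hg (e' := e) (by
    show start z.1 _ = e []
    rw [he]; rfl) h0 hv t ht
  simpa only [pull_single] using this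

/-- Bad lists are killed. -/
theorem theta_bad (z : annCoc d I r) (l : List I) (hb : Bad l) : theta hd z l = 0 := by
  rw [theta]
  split
  · next h =>
    rw [cl_eq_zero_iff, (exists_start hd z (fun a : I => (a : A)) (fun a => a.2)).choose_spec.2.2 l h hb]
    exact zero_mem _
  · rfl

lemma pull_slot {ι : Type*} (T0 : ι →₀ A) {V : Type u} [AddCommGroup V] [Module A V] (post : List ι) :
    ∀ (pre : List ι) (y : List ι → V),
    pull (fun a : Option ι => a.elim T0 fun b => Finsupp.single b 1)
      (pre.map some ++ none :: post.map some) y = T0.sum fun b c => c • y (pre ++ b :: post)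
  | [], y => by
    have h : ∀ (l : List ι) (y : List ι → V),
        pull (fun a : Option ι => a.elim T0 fun b => Finsupp.single b 1) (l.map some) y = y l := by
      intro l
      induction l with
      | nil => exact fun _ => rfl
      | cons a l ih =>
        intro y
        rw [List.map_cons, pull_cons]
        refine (Finsupp.sum_single_index (h := fun b (c : A) => c •
          pull _ (l.map some) fun s => y (b :: s)) (zero_smul A _)).trans ?_
        rw [one_smul, ih]
    rw [List.map_nil, List.nil_append, pull_cons]
    exact Finsupp.sum_congr fun b _ => by rw [h]; rfl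
  | a :: pre, y => by
    rw [List.map_cons, List.cons_append, pull_cons]
    refine (Finsupp.sum_single_index (h := fun b (c : A) => c •
      pull _ (pre.map some ++ none :: post.map some) fun s => y (b :: s)) (zero_smul A _)).trans ?_
    rw [one_smul, pull_slot T0 post pre]
    rfl

/-- Multilinearity in every slot. -/
theorem theta_slot (z : annCoc d I r) (pre post : List I) (x : I) (T0 : I →₀ A)
    (hx : (x : A) = T0.sum fun b c => c * (b : A)) :
    theta hd z (pre ++ x :: post) = T0.sum fun b c => c • theta hd z (pre ++ b :: post) := by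
  classical
  by_cases hl : (pre ++ x :: post).length = r
  swap
  · rw [theta, dif_neg hl]
    refine (Finset.sum_eq_zero fun b _ => ?_).symm
    show T0 b • theta hd z (pre ++ b :: post) = 0
    rw [theta, dif_neg (by simpa using hl), smul_zero]
  let g : Option I → A := fun a => a.elim (x : A) fun b => (b : A)
  have hg : ∀ a, g a ∈ I := fun a => by cases a <;> exact Subtype.property _
  let w := exists_start hd z (fun a : I => (a : A)) fun a => a.2
  have h := w.choose_spec.1.pull (fun a : Option I => a.elim T0 fun b => Finsupp.single b 1)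
    (fun a : I => (a : A)) g (fun a => by cases a <;> simp [g, hx])
  have hv0 : d 0 (pull (fun a : Option I => a.elim T0 fun b => Finsupp.single b 1)
      (pre.map some ++ none :: post.map some) w.choose) = 0 := by
    rw [pull_slot, map_finsuppSum]
    refine Finset.sum_eq_zero fun b _ => ?_
    show d 0 (T0 b • w.choose (pre ++ b :: post)) = 0
    rw [map_smul, w.choose_spec.2.1 _ (by simpa using hl), smul_zero]
  have := theta_eq hd z g hg (e := fun t => pull _ t (start z.1)) rfl h
    (pre.map some ++ none :: post.map some) (by simpa using hl) hv0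
  rw [show List.map (fun a => (⟨g a, hg a⟩ : I)) (pre.map some ++ none :: post.map some) = pre ++ x :: post by
    rw [List.map_append, List.map_cons, List.map_map, List.map_map]
    rw [show ((fun a => (⟨g a, hg a⟩ : I)) ∘ some) = id from rfl, List.map_id, List.map_id]
    rfl] at this
  rw [this]
  have hsub : (⟨_, hv0⟩ : LinearMap.ker (d 0)) = ∑ b ∈ T0.support, T0 b •
      (⟨w.choose (pre ++ b :: post), w.choose_spec.2.1 _ (by simpa using hl)⟩ : LinearMap.ker (d 0)) := by
    apply Subtype.ext
    rw [AddSubmonoidClass.coe_finsetSum]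
    exact pull_slot T0 post pre w.choose
  show (Submodule.Quotient.mk _ : MQ d I) = _
  rw [hsub, ← Submodule.mkQ_apply, map_sum, Finsupp.sum]
  refine Finset.sum_congr rfl fun b _ => ?_
  rw [map_smul, theta, dif_pos (by simpa using hl)]
  rfl

theorem theta_slot_add (z : annCoc d I r) (pre post : List I) (a b : I) :
    theta hd z (pre ++ (a + b) :: post) = theta hd z (pre ++ a :: post) + theta hd z (pre ++ b :: post) := by
  rw [theta_slot hd z pre post (a + b) (Finsupp.single a 1 + Finsupp.single b 1) (by
    rw [Finsupp.sum_add_index' (fun _ => zero_mul _) (fun _ _ _ => add_mul _ _ _),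
      Finsupp.sum_single_index (zero_mul _), Finsupp.sum_single_index (zero_mul _)]
    simp)]
  refine (Finsupp.sum_add_index' (h := fun b (c : A) => c • theta hd z (pre ++ b :: post))
    (fun _ => zero_smul _ _) (fun _ _ _ => add_smul _ _ _)).trans ?_
  refine congrArg₂ (· + ·) ?_ ?_ <;>
    exact (Finsupp.sum_single_index (h := fun b (c : A) => c • theta hd z (pre ++ b :: post))
      (zero_smul _ _)).trans (one_smul _ _)

theorem theta_slot_smul (z : annCoc d I r) (pre post : List I) (c : A) (a : I) :
    theta hd z (pre ++ (c • a) :: post) = c • theta hd z (pre ++ a :: post) := by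
  rw [theta_slot hd z pre post (c • a) (Finsupp.single a c) (by simp)]
  exact Finsupp.sum_single_index (zero_smul _ _)

/-- Products in one slot are killed. -/
theorem theta_slot_mul (z : annCoc d I r) (pre post : List I) (a b : I) :
    theta hd z (pre ++ ((a : A) • b) :: post) = 0 := by
  rw [theta_slot_smul, theta]
  split
  · rw [cl, ← Submodule.Quotient.mk_smul, Submodule.Quotient.mk_eq_zero]
    exact Submodule.smul_mem_smul a.2 (Subtype.property _)
  · exact smul_zero _

theorem theta_add (z z' : annCoc d I r) (l : List I) :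
    theta hd (z + z') l = theta hd z l + theta hd z' l := by
  by_cases hl : l.length = r
  swap
  · simp only [theta, dif_neg hl, add_zero]
  let w := exists_start hd z (fun a : I => (a : A)) fun a => a.2
  let w' := exists_start hd z' (fun a : I => (a : A)) fun a => a.2
  have h := w.choose_spec.1.add _ w'.choose_spec.1
  have hv0 : d 0 (w.choose l + w'.choose l) = 0 := by
    rw [map_add, w.choose_spec.2.1 l hl, w'.choose_spec.2.1 l hl, add_zero]
  have := theta_eq hd (z + z') (fun a : I => (a : A)) (fun a => a.2) (e := fun s => start z.1 s + start z'.1 s)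
    rfl h l hl hv0
  rw [show List.map (fun a : I => (⟨(a : A), a.2⟩ : I)) l = l from List.map_id l] at this
  rw [this, theta, dif_pos hl, theta, dif_pos hl]
  rfl

theorem theta_smul (c : A) (z : annCoc d I r) (l : List I) :
    theta hd (c • z) l = c • theta hd z l := by
  by_cases hl : l.length = r
  swap
  · simp only [theta, dif_neg hl, smul_zero]
  let w := exists_start hd z (fun a : I => (a : A)) fun a => a.2
  have hv0 : d 0 (c • w.choose l) = 0 := by
    rw [map_smul, w.choose_spec.2.1 l hl, smul_zero]
  have := theta_eq hd (c • z) (fun a : I => (a : A)) (fun a => a.2) (e := fun s => c • start z.1 s)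
    rfl (w.choose_spec.1.smul _ c) l hl hv0
  rw [show List.map (fun a : I => (⟨(a : A), a.2⟩ : I)) l = l from List.map_id l] at this
  rw [this, theta, dif_pos hl]
  rfl

/-- Coboundaries of annihilated cochains are killed. -/
theorem theta_boundary {q : ℕ} (z : annCoc d I (q + 1)) (w : N q) (hw : ∀ a ∈ I, a • w = 0)
    (hz : d q w = z.1) (l : List I) : theta hd z l = 0 := by
  rw [theta]
  split
  · next hl =>
    rw [cl_eq_zero_iff]
    refine (exists_start hd z (fun a : I => (a : A)) fun a => a.2).choose_spec.1.mem_of_boundary hd I _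
      (fun a => a.2) q _ 0 _ (fun _ => w) (fun t ht => ?_) (fun t ht => ?_) l (by omega)
    · rw [List.length_eq_zero_iff.1 ht]; exact hz.symm
    · obtain ⟨a, rfl⟩ := List.length_eq_one_iff.1 ht
      rw [del_cons, del_nil, hw _ a.2, sub_zero]
  · rfl

end Groth.Duality.FundLocal
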